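import Cfsg.Agent.H650.S5.Rel
import Cfsg.Agent.H194.MOwn.OmRow
import Cfsg.Agent.H897.T5Sub

/-!
# S2274, O3: the strong rows of `PΩ_n^ε(q)` in own characteristic (helper650)

Every automorphism of order `p ≥ 5` (`p ∣ q`) has an invariant totally singular plane on which it is not a scalar.
-/

set_option autoImplicit false

namespace Cfsg.Agent.H650.S5.Om

open Cfsg QuadraticMap Matrix
open Cfsg.Agent.LieClassical.OrthCore Cfsg.Agent.LieClassical.OrthTrans
open Cfsg.Agent.LieClassical.OrthFinite Cfsg.Agent.LieClassical.QuadForms Cfsg.Agent.H353.TwoOrth Module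
open Cfsg.Agent.ClassicalGeometry.OrthSemi (IsSS)
open Cfsg.Agent.CpAut.Orth Cfsg.Agent.CpAut.OrthMain
open Cfsg.Agent.CpAut.Psl (fixf mem_fixf)
open Cfsg.Agent.CpAut (Descent.exists_scale Descent.hilbert90 Descent.exists_basis Descent.scal)
open Cfsg.Agent.H194.MOwn.Om Cfsg.Agent.H533.T5

section lin

variable {F V : Type*} [Field F] [AddCommGroup V] [Module F V] {Q : QuadraticForm F V}

/-- A unipotent isometry `n ≠ 1` of order `p`: an invariant totally singular plane `⟨e, n e⟩`. -/
theorem exists_TSP_unip [Finite F] {p : ℕ} [Fact p.Prime] [CharP F p] (h2 : (2 : F) ≠ 0)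
    (hQ : Nondeg Q) (hd : 7 ≤ finrank F V) {n : V ≃ₗ[F] V} (hn : n ∈ O Q) (h1 : n ≠ 1)
    (hp : n ^ p = 1) : ∃ e : V, TS Q e (n e) ∧ n (n e) = (-1 : F) • e + (2 : F) • n e := by
  have hchar : CharP (Module.End F V) p := by
    have hV : Nontrivial V := by
      by_contra hV
      rw [not_nontrivial_iff_subsingleton] at hV
      have := finrank_zero_of_subsingleton (R := F) (M := V)
      omega
    exact charP_of_injective_algebraMap (algebraMap F (Module.End F V)).injective p
  have hnil : IsNilpotent ((n : V →ₗ[F] V) - 1 : Module.End F V) := by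
    refine ⟨p, ?_⟩
    have hex : ExpChar (Module.End F V) p := ExpChar.prime Fact.out
    rw [sub_pow_expChar_of_commute p (Commute.one_right _), one_pow, sub_eq_zero]
    ext v
    have h3 : ∀ k : ℕ, ((n : V →ₗ[F] V) ^ k : Module.End F V) v = (n ^ k) v := by
      intro k
      induction k generalizing v with
      | zero => rfl
      | succ k ih =>
        rw [pow_succ, pow_succ, Module.End.mul_apply, LinearEquiv.mul_apply, LinearEquiv.coe_coe, ih]
    rw [h3, hp]
    rfl
  obtain ⟨e, he, hne, hN⟩ := exists_sing_jordan h2 hQ hd hn h1 hnil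
  have h3 : polar Q e (n e) = 0 := by
    -- `polar (N e) (N e) = 0`
    have h4 : polar Q (n e - e) (n e - e) = 0 := by
      rw [adj hn]
      have h5 : n.symm (n e - e) = n e - e := by
        rw [LinearEquiv.symm_apply_eq]
        exact hN.symm
      rw [h5, sub_self, polar_zero_right]
    have h5 := sing_of_polar_self h2 h4
    rw [sub_eq_add_neg, Q_add, QuadraticMap.map_neg, polar_neg_right, mem_O.1 hn, he] at h5
    rw [polar_comm]
    simpa using h5
  refine ⟨e, ⟨he, by rw [mem_O.1 hn, he], h3, ?_⟩, ?_⟩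
  · -- independence
    have he0 : e ≠ 0 := by
      rintro rfl
      exact hne (map_zero n)
    intro a b hab
    by_cases hb : b = 0
    · subst hb
      rw [zero_smul, add_zero] at hab
      exact ⟨(smul_eq_zero.1 hab).resolve_right he0, rfl⟩
    · exfalso
      have h6 : n e = (-(a / b)) • e := by
        have h7 : b • n e = -(a • e) := by
          rw [eq_neg_iff_add_eq_zero, add_comm]
          exact hab
        have h8 : n e = b⁻¹ • (b • n e) := by rw [smul_smul, inv_mul_cancel₀ hb, one_smul]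
        rw [h8, h7, smul_neg, smul_smul, neg_smul]
        congr 2
        field_simp
      set t := -(a / b) with ht
      -- `n e = t e`, `N (N e) = (t - 1)² e = 0`
      have h9 : n (n e - e) = t • (n e - e) := by
        rw [h6]
        rw [map_sub, map_smul, h6]
        module
      rw [hN] at h9
      have h10 : (1 - t) • (n e - e) = 0 := by
        rw [sub_smul, one_smul, ← h9, sub_self]
      rcases smul_eq_zero.1 h10 with h | h
      · apply hne
        rw [h6, ← sub_eq_zero.1 h, one_smul]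
      · exact hne (sub_eq_zero.1 h)
  · rw [map_sub] at hN
    have h6 : n (n e) = n e - e + n e := by rw [← hN]; abel
    rw [h6]
    module

/-- **Existence of an invariant totally singular plane.** -/
theorem exists_TSP [Finite F] {p : ℕ} [Fact p.Prime] [CharP F p] (hp2 : p ≠ 2) (hG : Good Q)
    (hd : 7 ≤ finrank F V) {σ : F ≃+* F} {l : F} {M : Equiv.Perm V} (hM : IsSS Q σ l M) {a : F}
    (ha : ∀ v, (M ^ p) v = a • v) (hns : ¬ ∃ a : F, ∀ v, M v = a • v) :
    ∃ e : V, TS Q e (M e) ∧ ∃ r s : F, M (M e) = r • e + s • M e := by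
  classical
  have h2 : (2 : F) ≠ 0 := Cfsg.Agent.CpAut.PspRow.two_ne Fact.out hp2
  obtain ⟨v₀, hv₀⟩ := exists_ne hG
  have hv0 : v₀ ≠ 0 := by rintro rfl; exact hv₀ (QuadraticMap.map_zero Q)
  have ha0 : a ≠ 0 := by
    rintro rfl
    apply hv0
    apply (M ^ p).injective
    rw [ha, ha, zero_smul, zero_smul]
  have hpp : p.Prime := Fact.out
  have hfd : FiniteDimensional F V := Module.finite_of_finrank_pos (by omega)
  by_cases hσ : σ = 1
  · subst hσ
    obtain ⟨c, hc⟩ : ∃ c : F, c ^ p = a := by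
      obtain ⟨c, hc⟩ := (Finite.injective_iff_surjective.1 (frobenius_inj F p)) a
      exact ⟨c, hc⟩
    have hc0 : c ≠ 0 := by
      rintro rfl
      rw [zero_pow hpp.ne_zero] at hc
      exact ha0 hc.symm
    set N : Equiv.Perm V := Descent.scal V (Units.mk0 c⁻¹ (inv_ne_zero hc0)) * M with hN
    have hNv : ∀ v, N v = c⁻¹ • M v := fun v => rfl
    have hNs : IsSS Q (1 : F ≃+* F) (c⁻¹ * c⁻¹ * l) N := by
      refine ⟨mul_ne_zero (mul_ne_zero (inv_ne_zero hc0) (inv_ne_zero hc0)) hM.ne, fun u v => ?_,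
        fun x v => ?_, fun v => ?_⟩
      · rw [hNv, hNv, hNv, hM.add, smul_add]
      · rw [hNv, hNv, hM.smul, smul_comm]
      · rw [hNv, QuadraticMap.map_smul, hM.form, smul_eq_mul, mul_assoc (c⁻¹ * c⁻¹)]
    have hNp : N ^ p = 1 := by
      ext1 v
      rw [pow_smul' rfl hM hNv, ha, smul_smul, inv_pow, hc, inv_mul_cancel₀ ha0, one_smul]
      rfl
    have hl1 : c⁻¹ * c⁻¹ * l = 1 := by
      have h3 := isSS_pow hNs p
      rw [hNp] at h3
      have h4 := (isSS_unique (exists_ne hG) h3 isSS_one).2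
      rw [Finset.prod_congr rfl (fun i _ => by rw [one_pow]; rfl :
        ∀ i ∈ Finset.range p, ((1 : F ≃+* F) ^ i) (c⁻¹ * c⁻¹ * l) = c⁻¹ * c⁻¹ * l),
        Finset.prod_const, Finset.card_range] at h4
      have h5 : (c⁻¹ * c⁻¹ * l) ^ p = 1 ^ p := by rw [h4, one_pow]
      exact frobenius_inj F p h5
    rw [hl1] at hNs
    let n : V ≃ₗ[F] V :=
      { N with
        map_add' := hNs.add
        map_smul' := hNs.smul }
    have hn : ∀ v, n v = N v := fun v => rfl
    have hnO : n ∈ O Q := by
      intro v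
      rw [hn, hNs.form, one_mul]
      rfl
    have hnp : n ^ p = 1 := by
      have h1 : ∀ (k : ℕ) (v : V), (n ^ k) v = (N ^ k) v := by
        intro k
        induction k with
        | zero => exact fun v => rfl
        | succ k ih =>
          intro v
          rw [pow_succ, pow_succ, LinearEquiv.mul_apply, Equiv.Perm.mul_apply, ih, hn]
      apply LinearEquiv.ext
      intro v
      rw [h1, hNp]
      rfl
    have hn1 : n ≠ 1 := by
      intro h1
      apply hns
      refine ⟨c, fun v => ?_⟩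
      have h3 : c⁻¹ • M v = v := by
        rw [← hNv, ← hn, h1]
        rfl
      rw [← h3, smul_smul, mul_inv_cancel₀ hc0, one_smul, h3]
    obtain ⟨e, he, he2⟩ := exists_TSP_unip h2 hG.nondeg hd hnO hn1 hnp
    rw [hn, hNv] at he
    refine ⟨e, TS.of_smul (inv_ne_zero hc0) he, -(c * c), 2 * c, ?_⟩
    rw [hn, hn, hNv, hNv, hM.smul] at he2
    have h3 := congrArg (fun v => (c * c) • v) he2
    simp only [RingAut.one_apply, smul_add, smul_smul] at h3
    have e1 : c * c * (c⁻¹ * c⁻¹) = 1 := by field_simp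
    have e2 : c * c * (2 * c⁻¹) = 2 * c := by field_simp
    rw [e1, one_smul, e2] at h3
    rw [h3]
    congr 2
    ring
  · have hsc : IsSS Q (1 : F ≃+* F) (a * a) (M ^ p) := by
      refine ⟨mul_ne_zero ha0 ha0, fun u v => ?_, fun t v => ?_, fun v => ?_⟩
      · rw [ha, ha, ha, smul_add]
      · rw [ha, ha, smul_comm]
        rfl
      · rw [ha, QuadraticMap.map_smul]
        rfl
    have hσp : σ ^ p = 1 := (isSS_unique (exists_ne hG) (isSS_pow hM p) hsc).1
    have hord : orderOf σ = p := orderOf_eq_prime hσp hσ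
    obtain ⟨c, hc⟩ := Descent.exists_scale (toSemi hM) hord hpp.pos ha0 ha ⟨v₀, hv0⟩
    set N : Equiv.Perm V := Descent.scal V c * M with hN
    have hNv : ∀ v, N v = (c : F) • M v := fun v => rfl
    have hNs : IsSS Q σ (c * c * l) N := by
      refine ⟨mul_ne_zero (mul_ne_zero c.ne_zero c.ne_zero) hM.ne, fun u v => ?_, fun x v => ?_,
        fun v => ?_⟩
      · rw [hNv, hNv, hNv, hM.add, smul_add]
      · rw [hNv, hNv, hM.smul, smul_comm]
      · rw [hNv, QuadraticMap.map_smul, hM.form, smul_eq_mul, mul_assoc ((c : F) * c)]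
    have h7 : ∏ i ∈ Finset.range p, (σ ^ i) ((c : F) * c * l) = 1 := by
      have h8 := isSS_pow hNs p
      rw [hc] at h8
      exact (isSS_unique (exists_ne hG) h8 isSS_one).2
    obtain ⟨e, he, hle⟩ := Descent.hilbert90 hord hpp.pos h7
    obtain ⟨b, hb⟩ := Descent.exists_basis (toSemi hNs) hord hpp.pos hc
      (ι := Fin (Module.finrank F V)) (by rw [Fintype.card_fin])
    obtain ⟨Q₀, hQ₀⟩ := exists_form hNs hb he hle
    have hfin : Finite ↥(fixf σ) := inferInstance
    have hnd : Nondeg Q₀ := nondeg_zero hQ₀ hG.nondeg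
    have hrk : Module.finrank (fixf σ) (Fin (Module.finrank F V) → fixf σ) =
        Module.finrank F V := by
      rw [Module.finrank_fintype_fun_eq_card, Fintype.card_fin]
    have hG₀ : Good Q₀ := good_of_finite hnd (by omega)
    obtain ⟨x, x', hx⟩ := hG₀.exists_hyp
    obtain ⟨y, y', hfr⟩ := exists_Fr hG₀ hx
    have hTS : TS Q (CpAut.Orth.J σ b x) (CpAut.Orth.J σ b y) := by
      refine ⟨?_, ?_, ?_, fun s t hst => ?_⟩
      · rw [hQ₀, hfr.hx.left]; simp
      · rw [hQ₀, hfr.hy.left]; simp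
      · rw [polar_J hQ₀, hfr.xy]; simp
      · have h3 := congrArg (polar Q (CpAut.Orth.J σ b x')) hst
        have h4 := congrArg (polar Q (CpAut.Orth.J σ b y')) hst
        rw [polar_add_right, polar_smul_right, polar_smul_right, polar_J hQ₀, polar_J hQ₀,
          hfr.hx.pair', hfr.x'y, polar_zero_right] at h3
        rw [polar_add_right, polar_smul_right, polar_smul_right, polar_J hQ₀, polar_J hQ₀,
          hfr.hy.pair', polar_comm Q₀ y' x, hfr.xy', polar_zero_right] at h4
        simp only [smul_eq_mul] at h3 h4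
        push_cast at h3 h4
        simp only [mul_one, mul_zero, add_zero, zero_add] at h3 h4
        exact ⟨(mul_eq_zero.1 h3).resolve_right he, (mul_eq_zero.1 h4).resolve_right he⟩
    obtain ⟨t, ht⟩ : ∃ t : F, σ t ≠ t := by
      by_contra h3
      push Not at h3
      exact hσ (RingEquiv.ext h3)
    have h5 := TS.comb hTS (Ne.symm ht)
    have hMJ := M_J (toSemi hNs) hb
    have h6 : ∀ t : F, N (CpAut.Orth.J σ b x + t • CpAut.Orth.J σ b y) =
        CpAut.Orth.J σ b x + σ t • CpAut.Orth.J σ b y := by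
      intro t
      rw [hNs.add, hNs.smul, hMJ, hMJ]
    rw [← h6, hNv] at h5
    refine ⟨_, TS.of_smul c.ne_zero h5, ?_⟩
    generalize CpAut.Orth.J σ b x = X at h5 h6 ⊢
    generalize CpAut.Orth.J σ b y = Y at h5 h6 ⊢
    set u : F := (σ (σ t) - t) / (σ t - t) with hu
    have hst : σ t - t ≠ 0 := sub_ne_zero.2 ht
    have h8 : (c : F) • M ((c : F) • M (X + t • Y)) = X + σ (σ t) • Y := by
      rw [← hNv, ← hNv, h6, h6]
    have h9 : (c : F) • M (X + t • Y) = X + σ t • Y := by rw [← hNv, h6]
    have hc0 : (c : F) ≠ 0 := c.ne_zero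
    have hsc0 : σ (c : F) ≠ 0 := (map_ne_zero σ).2 hc0
    refine ⟨((c : F) * σ c)⁻¹ * (1 - u), (σ c)⁻¹ * u, ?_⟩
    rw [hM.smul, smul_smul] at h8
    have h10 : M (M (X + t • Y)) = ((c : F) * σ c)⁻¹ • (X + σ (σ t) • Y) := by
      rw [← h8, smul_smul, inv_mul_cancel₀ (mul_ne_zero hc0 hsc0), one_smul]
    have h11 : X + σ (σ t) • Y = (1 - u) • (X + t • Y) + u • (X + σ t • Y) := by
      have h12 : σ (σ t) = (1 - u) * t + u * σ t := by
        have h13 : u * (σ t - t) = σ (σ t) - t := by rw [hu, div_mul_cancel₀ _ hst]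
        linear_combination -h13
      rw [h12]
      module
    rw [h10, h11, ← h9]
    have e1 : ((c : F) * σ c)⁻¹ * u * c = (σ c)⁻¹ * u := by field_simp
    rw [smul_add, smul_smul, smul_smul, smul_smul, e1]

/-- Totally singular pairs are stable under `SL_2`. -/
theorem TS.sl {e f : V} (h : TS Q e f) {a b c d : F} (hdet : a * d - b * c = 1) :
    TS Q (a • e + c • f) (b • e + d • f) := by
  have hx : polar Q e e = 0 := by rw [polar_self', h.left, mul_zero]
  have hy : polar Q f f = 0 := by rw [polar_self', h.right, mul_zero]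
  refine ⟨?_, ?_, ?_, fun s t hst => ?_⟩
  · rw [Q_add, QuadraticMap.map_smul, QuadraticMap.map_smul, polar_smul_left, polar_smul_right, h.left,
      h.right, h.pol]
    simp
  · rw [Q_add, QuadraticMap.map_smul, QuadraticMap.map_smul, polar_smul_left, polar_smul_right, h.left,
      h.right, h.pol]
    simp
  · rw [polar_add_left, polar_add_right, polar_add_right, polar_smul_left, polar_smul_left, polar_smul_left,
      polar_smul_left, polar_smul_right, polar_smul_right, polar_smul_right, polar_smul_right, h.pol, h.pol',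
      hx, hy]
    simp
  · have h1 : (s * a + t * b) • e + (s * c + t * d) • f = 0 := by
      rw [← hst]
      module
    obtain ⟨h2, h3⟩ := h.ind _ _ h1
    constructor
    · linear_combination d * h2 - b * h3 - s * hdet
    · linear_combination a * h3 - c * h2 - t * hdet

end lin

open Cfsg.Agent.AutOrth.Main Cfsg.Agent.H208.Dict Cfsg.Agent.ClassicalGeometry.OrthAut1
open Cfsg.Agent.H957.T5V (toA toA_apply IsScal)
open Cfsg.Agent.H152.MeetOmega

/-- The general row. -/
theorem srow_of_good {F : Type} [Field F] [Finite F] {ι : Type} [Fintype ι] [DecidableEq ι]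
    {Q : QuadraticForm F (ι → F)} (hG : Cfsg.Agent.LieClassical.OrthTrans.Good Q) (hd : 7 ≤ Fintype.card ι) {p : ℕ} [Fact p.Prime]
    [CharP F p] (hp5 : 5 ≤ p) (hrow : SRow p (ProjectiveSpecialLinearGroup (Fin 2) F))
    (hall : ∀ β : MulAut (POmega F ⇑Q), orderOf β = p → AutOrth.Main.Ind ⇑Q β) :
    SRow p (POmega F ⇑Q) := by
  have hp : p.Prime := Fact.out
  have hfr : Module.finrank F (ι → F) = Fintype.card ι := Module.finrank_fintype_fun_eq_card F
  have : Nonempty ι := Fintype.card_pos_iff.1 (by omega)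
  have : Nontrivial (ι → F) := Function.nontrivial
  have hfin : Finite (POmega F ⇑Q) := inferInstance
  refine srow_of_planes (F := F) hp (π := proj ⇑Q) (proj_surjective ⇑Q) (ρ := rho ⇑Q)
    (rho_injective ⇑Q) ?_ (W := ClassicalGeometry.OrthSemi.Gam Q) ?_ ?_ ?_ ?_ hrow (Good := TS Q)
    (fun e f h => h.ind) ?_ ?_ ?_
  · intro s
    refine ⟨fun u v => ?_, fun b v => ?_⟩
    · rw [rho_apply, rho_apply, rho_apply, mulVec_add]
    · rw [rho_apply, rho_apply, mulVec_smul]
      rfl
  · rintro y ⟨σ, l, hy⟩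
    exact ⟨σ, hy.add, hy.smul⟩
  · exact rho_mem_gam
  · intro β hβ
    obtain ⟨y, hy, h⟩ := exists_of_ind hG (hall β hβ)
    exact ⟨y, mem_gam_iff.2 hy, h⟩
  · exact fun y hy h => unique hG (mem_gam_iff.1 hy) h
  · intro e f h g
    refine TS.sl h ?_
    have h1 := g.2
    rwa [Matrix.det_fin_two] at h1
  · intro e f e' f' h h'
    obtain ⟨g, hg, h1, h2⟩ := trans_TS hG (by omega) h h'
    obtain ⟨s, hs⟩ := (oe hG).surjective ⟨g, hg⟩
    have hsg : rho ⇑Q s = toA g := by
      ext v : 1
      rw [rho_apply, toA_apply, ← oe_apply hG s v, hs]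
    exact ⟨s, by rw [hsg, toA_apply, h1], by rw [hsg, toA_apply, h2]⟩
  · rintro y ⟨σ, l, hy⟩ ⟨a, ha⟩ hyn
    obtain ⟨e, h1, r, s, h2⟩ := exists_TSP (p := p) (by omega) hG (by omega) hy ha hyn
    exact ⟨e, y e, h1, Plane.of_vec (σ := σ) ⟨hy.add, hy.smul⟩ h1.ind h2⟩

/-- **The strong row `PΩ_{2m+1}(q)` in own characteristic.** -/
theorem srow_odd {S : Type*} [Group S] {F : Type} [Field F] [Finite F] {m p : ℕ} (hm : 3 ≤ m)
    [Fact p.Prime] (hp5 : 5 ≤ p) [CharP F p] (hrow : SRow p (ProjectiveSpecialLinearGroup (Fin 2) F))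
    (e : S ≃* POmega F (quadFormOdd m F)) : SRow p S := by
  refine Cfsg.Agent.H897.T5Sub.SRow.congr e.symm ?_
  have h2 : (2 : F) ≠ 0 := Cfsg.Agent.CpAut.PspRow.two_ne (p := p) Fact.out (by omega)
  have hall : ∀ β : MulAut (POmega F (quadFormOdd m F)), orderOf β = p →
    AutOrth.Main.Ind (quadFormOdd m F) β := fun β _ => all_odd hm h2 β
  clear e
  revert hall
  rw [← coe_oddForm]
  intro hall
  refine srow_of_good (good_odd (by omega) h2) ?_ hp5 hrow hall
  simp only [Fintype.card_sum, Fintype.card_unit, Fintype.card_fin]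
  omega

/-- **The strong row `PΩ⁺_{2m}(q)` in own characteristic.** -/
theorem srow_plus {S : Type*} [Group S] {F : Type} [Field F] [Finite F] {m p : ℕ} (hm : 4 ≤ m)
    [Fact p.Prime] (hp5 : 5 ≤ p) [CharP F p] (hrow : SRow p (ProjectiveSpecialLinearGroup (Fin 2) F))
    (e : S ≃* POmega F (quadFormPlus m F)) : SRow p S := by
  refine Cfsg.Agent.H897.T5Sub.SRow.congr e.symm ?_
  have hall : ∀ β : MulAut (POmega F (quadFormPlus m F)), orderOf β = p →
      AutOrth.Main.Ind (quadFormPlus m F) β := by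
    intro β hβ
    have hP : IsPGroup p ↥(Subgroup.zpowers β) :=
      IsPGroup.of_card (n := 1) (by rw [Nat.card_zpowers, hβ, pow_one])
    exact ind_plus hp5 hm hP β (Subgroup.mem_zpowers β)
  clear e
  revert hall
  rw [← coe_plusForm]
  intro hall
  refine srow_of_good (good_plus (by omega)) ?_ hp5 hrow hall
  simp only [Fintype.card_sum, Fintype.card_fin]
  omega

/-- **The strong row `PΩ⁻_{2m+2}(q)` in own characteristic.** -/
theorem srow_minus {S : Type*} [Group S] {F : Type} [Field F] [Finite F] {m p : ℕ} (hm : 3 ≤ m)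
    {a b : F} (hab : ∀ z₁ z₂ : F, z₁ ^ 2 + a * z₁ * z₂ + b * z₂ ^ 2 = 0 → z₁ = 0 ∧ z₂ = 0)
    [Fact p.Prime] (hp5 : 5 ≤ p) [CharP F p] (hrow : SRow p (ProjectiveSpecialLinearGroup (Fin 2) F))
    (e : S ≃* POmega F (quadFormMinus m F a b)) : SRow p S := by
  refine Cfsg.Agent.H897.T5Sub.SRow.congr e.symm ?_
  have hall : ∀ β : MulAut (POmega F (quadFormMinus m F a b)), orderOf β = p →
    AutOrth.Main.Ind (quadFormMinus m F a b) β := fun β _ => all_minus hm hab β
  clear e
  revert hall
  rw [← coe_minusForm]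
  intro hall
  refine srow_of_good (good_minus (by omega) hab) ?_ hp5 hrow hall
  simp only [Fintype.card_sum, Fintype.card_fin]
  omega

end Cfsg.Agent.H650.S5.Om
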