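import Cfsg.Agent.H957.T5Tr
import Cfsg.Agent.H897.MeetPSL
import Cfsg.Agent.H533.T5.Defs

/-!
# Strong pairs through sections given by relations; invariant planes (helper650, S2274)

* `spair_of_rel` : `R ≤ A × B` a subgroup with `(1, b) ∈ R → b = 1`; a strong pair of `B` gives a strong pair of `A`.
* `Plane` : `e`, `f` independent, `y` preserves the plane `⟨e, f⟩` and is not a scalar on it.
* `srow_of_planes` : `T = π(X)`, automorphisms of order `p` of `T` are induced by semilinear maps of `V`; every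
  non-scalar one with scalar `p`-th power has a good invariant plane; good pairs are permuted transitively by `X`;
  then the strong row of `PSL_2(F)` gives the strong row of `T`.
-/

set_option autoImplicit false

namespace Cfsg.Agent.H650.S5

open Cfsg.Agent.H533.T5

section rel

variable {A B : Type*} [Group A] [Group B] {p : ℕ}

/-- **Strong pairs through a relation.** -/
theorem spair_of_rel (hp : p.Prime) (R : Subgroup (A × B)) (hR : ∀ b : B, ((1 : A), b) ∈ R → b = 1)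
    {S : Subgroup A} {T : Subgroup B} (hT : ∀ t ∈ T, ∃ s ∈ S, (s, t) ∈ R) {c d : A} {c₂ d₂ : B}
    (hc : (c, c₂) ∈ R) (hd : (d, d₂) ∈ R) (h : SPair p T c₂ d₂) : SPair p S c d := by
  let f₁ : ↥R →* A := (MonoidHom.fst A B).comp R.subtype
  let f₂ : ↥R →* B := (MonoidHom.snd A B).comp R.subtype
  have hinj : Function.Injective f₁ := by
    rw [injective_iff_map_eq_one]
    rintro ⟨⟨a, b⟩, hab⟩ h1
    change a = 1 at h1
    subst h1
    have := hR b hab
    subst this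
    rfl
  have h1 : SPair p (S.comap f₁) (⟨(c, c₂), hc⟩ : ↥R) ⟨(d, d₂), hd⟩ := by
    refine SPair.of_hom hp f₂ (T := T) ?_ h
    intro t ht
    obtain ⟨s, hs, hst⟩ := hT t ht
    exact ⟨⟨(s, t), hst⟩, hs, rfl⟩
  have h2 := h1.of_injective f₁ hinj
  exact h2.mono (Subgroup.map_comap_le _ _)

end rel

section planes

open Cfsg.Agent.H957.T5V Cfsg.Agent.H957.T5Tr
open Cfsg.Agent.H903.SylSemi (Ind scal scal_apply)
open Cfsg.Agent.H897.MeetPSL Matrix
open Cfsg.Agent.H199.PslAut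
open Cfsg.Agent.ClassicalGeometry.AutPSL.Root
open Cfsg.Agent.ClassicalGeometry.AutPSL.Auto

variable {F : Type} [Field F] {V : Type*} [AddCommGroup V] [Module F V]

/-- The parametrised plane. -/
def J (e f : V) (v : Fin 2 → F) : V := v 0 • e + v 1 • f

theorem J_add (e f : V) (u v : Fin 2 → F) : J e f (u + v) = J e f u + J e f v := by
  simp only [J, Pi.add_apply, add_smul]
  abel

theorem J_smul (e f : V) (a : F) (v : Fin 2 → F) : J e f (a • v) = a • J e f v := by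
  simp only [J, Pi.smul_apply, smul_eq_mul, smul_add, smul_smul]

theorem J_injective {e f : V} (h : ∀ a b : F, a • e + b • f = 0 → a = 0 ∧ b = 0) :
    Function.Injective (J (F := F) e f) := by
  intro u v huv
  have h1 : J e f (u - v) = 0 := by
    have : u = (u - v) + v := by abel
    rw [this, J_add] at huv
    exact add_eq_right.1 huv
  obtain ⟨h2, h3⟩ := h _ _ h1
  funext i
  fin_cases i
  · exact sub_eq_zero.1 h2
  · exact sub_eq_zero.1 h3

theorem J_mulVec (e f : V) (g : Matrix (Fin 2) (Fin 2) F) (v : Fin 2 → F) :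
    J e f (g *ᵥ v) = J (g 0 0 • e + g 1 0 • f) (g 0 1 • e + g 1 1 • f) v := by
  simp only [J, Matrix.mulVec, dotProduct, Fin.sum_univ_two]
  module

/-- `y` preserves the plane `⟨e, f⟩` and is not a scalar there. -/
def Plane (F : Type) [Field F] {V : Type*} [AddCommGroup V] [Module F V] (y : Equiv.Perm V) (e f : V) :
    Prop :=
  (∀ v : Fin 2 → F, ∃ v' : Fin 2 → F, y (J e f v) = J e f v') ∧
    ∃ v : Fin 2 → F, ∀ a : F, y (J e f v) ≠ a • J e f v

/-- A pair `e`, `y e` with `y² e ∈ ⟨e, y e⟩`. -/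
theorem Plane.of_vec {σ : F ≃+* F} {y : Equiv.Perm V} (hy : Semi σ y) {e : V}
    (h : ∀ a b : F, a • e + b • y e = 0 → a = 0 ∧ b = 0) {a b : F} (h2 : y (y e) = a • e + b • y e) :
    Plane F y e (y e) := by
  constructor
  · intro v
    refine ⟨![σ (v 1) * a, σ (v 0) + σ (v 1) * b], ?_⟩
    simp only [J, hy.add, hy.smul, h2, cons_val_zero, cons_val_one]
    module
  · refine ⟨![1, 0], fun c hc => ?_⟩
    simp only [J, cons_val_zero, cons_val_one, one_smul, zero_smul, add_zero] at hc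
    have h3 : c • e + (-1 : F) • y e = 0 := by rw [hc]; module
    have := (h _ _ h3).2
    exact one_ne_zero (neg_eq_zero.1 this)

/-- The induced map of the plane. -/
theorem exists_ind [Finite F] {σ : F ≃+* F} {y : Equiv.Perm V} (hy : Semi σ y) {e f : V}
    (hJ : Function.Injective (J (F := F) e f))
    (h : ∀ v : Fin 2 → F, ∃ v' : Fin 2 → F, y (J e f v) = J e f v') :
    ∃ w : Equiv.Perm (Fin 2 → F), (∀ v, y (J e f v) = J e f (w v)) ∧ Semi σ w := by
  choose w hw using h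
  have hinj : Function.Injective w := by
    intro u v huv
    apply hJ
    apply y.injective
    rw [hw, hw, huv]
  refine ⟨Equiv.ofBijective w (Finite.injective_iff_bijective.1 hinj), hw, ?_, ?_⟩
  · intro u v
    apply hJ
    change J e f (w (u + v)) = J e f (w u + w v)
    rw [← hw, J_add, J_add, hy.add, hw, hw]
  · intro a v
    apply hJ
    change J e f (w (a • v)) = J e f (σ a • w v)
    rw [← hw, J_smul, J_smul, hy.smul, hw]

/-- Every semilinear map of `F²` induces an automorphism of `PSL_2(F)`. -/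
theorem exists_ind_psl {σ : F ≃+* F} {w : Equiv.Perm (Fin 2 → F)} (hw : Semi σ w) :
    ∃ c : MulAut (ProjectiveSpecialLinearGroup (Fin 2) F),
      Ind (pr : SpecialLinearGroup (Fin 2) F →* _) (rho 2 F) w c := by
  obtain ⟨A, rfl⟩ := exists_smap (show Cfsg.Agent.H903.SylSemi.Semi F w σ from ⟨hw.add, hw.smul⟩)
  exact ⟨_, ind_smap A σ⟩

/-- A semilinear map of `F²` inducing the identity is a scalar. -/
theorem scal_of_ind_one {σ : F ≃+* F} {w : Equiv.Perm (Fin 2 → F)} (hw : Semi σ w)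
    (h : Ind (pr : SpecialLinearGroup (Fin 2) F →* _) (rho 2 F) w 1) :
    ∃ a : Fˣ, w = scal F (Fin 2 → F) a := by
  obtain ⟨A, rfl⟩ := exists_smap (show Cfsg.Agent.H903.SylSemi.Semi F w σ from ⟨hw.add, hw.smul⟩)
  have h1 : Psi 2 F A * phi 2 F σ = 1 :=
    Ind.unique pr_surjective rho_injective (ind_smap A σ) h
  obtain ⟨⟨u, rfl⟩, h2⟩ := Psi_phi_eq le_rfl (g := A) (σ := σ) (τ := 1) (by rw [h1, map_one])
  refine ⟨u, ?_⟩
  ext v : 1
  rw [smap_apply, h2, scal_apply, Cfsg.Agent.H199.PslAut.coe_scal]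
  change (scalar (Fin 2) (u : F)) *ᵥ v = (u : F) • v
  rw [Matrix.scalar_apply, Matrix.diagonal_const_mulVec]

theorem semi_rho (s : SpecialLinearGroup (Fin 2) F) : Semi (1 : F ≃+* F) (rho 2 F s) := by
  refine ⟨fun u v => ?_, fun b v => ?_⟩
  · rw [rho_apply, rho_apply, rho_apply, mulVec_add]
  · rw [rho_apply, rho_apply, mulVec_smul]
    rfl

variable {T : Type*} [Group T] [Finite T] {X : Type*} [Group X]

/-- **The strong pair of two maps with invariant planes.** -/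
theorem spair_of_planes [Finite F] [Finite V] [Nontrivial V] {p : ℕ} (hp : p.Prime) {π : X →* T}
    {ρ : X →* Equiv.Perm V}
    (hρlin : ∀ s : X, Semi (1 : F ≃+* F) (ρ s))
    {W : Subgroup (Equiv.Perm V)} (hW : ∀ y ∈ W, ∃ σ : F ≃+* F, Semi σ y) (hWρ : ∀ s : X, ρ s ∈ W)
    (huniq : ∀ y ∈ W, Ind π ρ y 1 → ∃ a : Fˣ, y = scal F V a)
    (hrow : SRow p (ProjectiveSpecialLinearGroup (Fin 2) F))
    {Good : V → V → Prop} (hind : ∀ e f, Good e f → ∀ a b : F, a • e + b • f = 0 → a = 0 ∧ b = 0)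
    (hsl : ∀ e f, Good e f → ∀ g : SpecialLinearGroup (Fin 2) F,
      Good ((g : Matrix (Fin 2) (Fin 2) F) 0 0 • e + (g : Matrix (Fin 2) (Fin 2) F) 1 0 • f)
        ((g : Matrix (Fin 2) (Fin 2) F) 0 1 • e + (g : Matrix (Fin 2) (Fin 2) F) 1 1 • f))
    (htr : ∀ e f e' f', Good e f → Good e' f' → ∃ x : X, ρ x e = e' ∧ ρ x f = f')
    {c d : MulAut T} (hc : orderOf c = p) (hd : orderOf d = p) {y z : Equiv.Perm V} (hy : y ∈ W) (hz : z ∈ W)
    (hyc : Ind π ρ y c) (hzd : Ind π ρ z d) {e f e' f' : V} (hef : Good e f) (hef' : Good e' f')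
    (hyP : Plane F y e f) (hzP : Plane F z e' f') : SPair p (MulAut.conj : T →* MulAut T).range c d := by
  classical
  obtain ⟨x₀, hx1, hx2⟩ := htr e' f' e f hef' hef
  have hx : ∀ v : Fin 2 → F, ρ x₀ (J e' f' v) = J e f v := by
    intro v
    rw [J, (hρlin x₀).add, (hρlin x₀).smul, (hρlin x₀).smul, hx1, hx2]
    rfl
  have hxi : ∀ v : Fin 2 → F, (ρ x₀)⁻¹ (J e f v) = J e' f' v := by
    intro v
    rw [Equiv.Perm.inv_eq_iff_eq, hx]
  refine SPair.conj_right (s := MulAut.conj (π x₀)) ⟨π x₀, rfl⟩ ?_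
  set d' := MulAut.conj (π x₀) * d * (MulAut.conj (π x₀))⁻¹ with hd'
  set z' := ρ x₀ * z * (ρ x₀)⁻¹ with hz'
  have hz'W : z' ∈ W := mul_mem (mul_mem (hWρ _) hz) (inv_mem (hWρ _))
  have e1 : (ρ x₀)⁻¹ = ρ x₀⁻¹ := (map_inv ρ x₀).symm
  have e2 : (MulAut.conj (π x₀))⁻¹ = MulAut.conj (π x₀⁻¹) := by rw [map_inv π, map_inv]
  have hz'd : Ind π ρ z' d' := by
    rw [hz', hd', e1, e2]
    exact ((Ind.conj π ρ x₀).mul hzd).mul (Ind.conj π ρ x₀⁻¹)
  have hz'P : Plane F z' e f := by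
    obtain ⟨h1, v, h2⟩ := hzP
    constructor
    · intro v
      obtain ⟨v', hv'⟩ := h1 v
      refine ⟨v', ?_⟩
      rw [hz', Equiv.Perm.mul_apply, Equiv.Perm.mul_apply, hxi, hv', hx]
    · refine ⟨v, fun a ha => h2 a ?_⟩
      rw [hz', Equiv.Perm.mul_apply, Equiv.Perm.mul_apply, hxi] at ha
      have h3 := congrArg ((ρ x₀)⁻¹ : Equiv.Perm V) ha
      rw [Cfsg.Agent.H957.T5V.inv_apply_self, ← J_smul, hxi, J_smul] at h3
      exact h3
  have hd'p : orderOf d' = p := by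
    rw [hd', ← hd, ← MulAut.conj_apply]
    exact MulEquiv.orderOf_eq (MulAut.conj (MulAut.conj (π x₀))) d
  clear_value z' d'
  have hJ : Function.Injective (J (F := F) e f) := J_injective (hind e f hef)
  -- the relation
  let R : Subgroup (MulAut T × MulAut (ProjectiveSpecialLinearGroup (Fin 2) F)) :=
    { carrier := {ab | ∃ w ∈ W, Ind π ρ w ab.1 ∧ ∃ w₂ : Equiv.Perm (Fin 2 → F),
        (∀ v, w (J e f v) = J e f (w₂ v)) ∧
          Ind (pr : SpecialLinearGroup (Fin 2) F →* _) (rho 2 F) w₂ ab.2}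
      one_mem' := ⟨1, one_mem _, Ind.one π ρ, 1, fun v => rfl, Ind.one _ _⟩
      mul_mem' := by
        rintro ⟨a, b⟩ ⟨a', b'⟩ ⟨w, hw, h1, w₂, h2, h3⟩ ⟨w', hw', h1', w₂', h2', h3'⟩
        refine ⟨w * w', mul_mem hw hw', h1.mul h1', w₂ * w₂', fun v => ?_, h3.mul h3'⟩
        rw [Equiv.Perm.mul_apply, Equiv.Perm.mul_apply, h2', h2]
      inv_mem' := by
        rintro ⟨a, b⟩ ⟨w, hw, h1, w₂, h2, h3⟩
        refine ⟨w⁻¹, inv_mem hw, h1.inv, w₂⁻¹, fun v => ?_, h3.inv⟩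
        rw [Equiv.Perm.inv_eq_iff_eq, h2, Cfsg.Agent.H957.T5V.apply_inv_self] }
  have hR1 : ∀ b, ((1 : MulAut T), b) ∈ R → b = 1 := by
    rintro b ⟨w, hw, h1, w₂, h2, h3⟩
    obtain ⟨a, rfl⟩ := huniq w hw h1
    have h4 : w₂ = scal F (Fin 2 → F) a := by
      ext v : 1
      apply hJ
      rw [← h2, scal_apply, scal_apply, J_smul]
    subst h4
    exact Ind.unique pr_surjective rho_injective h3 (ind_scal semi_rho a)
  have helt : ∀ (c : MulAut T) (y : Equiv.Perm V), orderOf c = p → y ∈ W → Ind π ρ y c → Plane F y e f →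
      ∃ c₂, (c, c₂) ∈ R ∧ orderOf c₂ = p := by
    intro c y hc hy hyc hyP
    obtain ⟨σ, hσ⟩ := hW y hy
    obtain ⟨w, hw, hws⟩ := exists_ind hσ hJ hyP.1
    obtain ⟨c₂, hc₂⟩ := exists_ind_psl hws
    have hmem : (c, c₂) ∈ R := ⟨y, hy, hyc, w, hw, hc₂⟩
    refine ⟨c₂, hmem, ?_⟩
    have := Fact.mk hp
    refine orderOf_eq_prime ?_ ?_
    · apply hR1
      have h1 := R.pow_mem hmem p
      rw [Prod.pow_mk] at h1
      rwa [← hc, pow_orderOf_eq_one, hc] at h1
    · rintro rfl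
      obtain ⟨a, rfl⟩ := scal_of_ind_one hws hc₂
      obtain ⟨-, v, hv⟩ := hyP
      apply hv a
      rw [hw, scal_apply, J_smul]
  obtain ⟨c₂, hcR, hc₂⟩ := helt c y hc hy hyc hyP
  obtain ⟨d₂, hdR, hd₂⟩ := helt d' z' hd'p hz'W hz'd hz'P
  refine spair_of_rel hp R hR1 ?_ hcR hdR (hrow c₂ d₂ hc₂ hd₂)
  rintro _ ⟨t, rfl⟩
  obtain ⟨g, rfl⟩ := pr_surjective t
  obtain ⟨x, hx1, hx2⟩ := htr _ _ _ _ hef (hsl e f hef g)
  refine ⟨MulAut.conj (π x), ⟨π x, rfl⟩, ρ x, hWρ x, Ind.conj π ρ x, rho 2 F g, fun v => ?_,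
    Ind.conj _ _ g⟩
  rw [rho_apply, J_mulVec, ← hx1, ← hx2, J, (hρlin x).add, (hρlin x).smul, (hρlin x).smul]
  rfl

/-- **The strong row from invariant planes.** -/
theorem srow_of_planes [Finite F] [Finite V] [Nontrivial V] {p : ℕ} (hp : p.Prime) {π : X →* T} (hπ : Function.Surjective π)
    {ρ : X →* Equiv.Perm V} (hρ : Function.Injective ρ)
    (hρlin : ∀ s : X, Semi (1 : F ≃+* F) (ρ s))
    {W : Subgroup (Equiv.Perm V)} (hW : ∀ y ∈ W, ∃ σ : F ≃+* F, Semi σ y) (hWρ : ∀ s : X, ρ s ∈ W)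
    (hindW : ∀ c : MulAut T, orderOf c = p → ∃ y ∈ W, Ind π ρ y c)
    (huniq : ∀ y ∈ W, Ind π ρ y 1 → ∃ a : Fˣ, y = scal F V a)
    (hrow : SRow p (ProjectiveSpecialLinearGroup (Fin 2) F))
    {Good : V → V → Prop} (hind : ∀ e f, Good e f → ∀ a b : F, a • e + b • f = 0 → a = 0 ∧ b = 0)
    (hsl : ∀ e f, Good e f → ∀ g : SpecialLinearGroup (Fin 2) F,
      Good ((g : Matrix (Fin 2) (Fin 2) F) 0 0 • e + (g : Matrix (Fin 2) (Fin 2) F) 1 0 • f)
        ((g : Matrix (Fin 2) (Fin 2) F) 0 1 • e + (g : Matrix (Fin 2) (Fin 2) F) 1 1 • f))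
    (htr : ∀ e f e' f', Good e f → Good e' f' → ∃ x : X, ρ x e = e' ∧ ρ x f = f')
    (hplane : ∀ y ∈ W, IsScal F (y ^ p) → ¬ IsScal F y → ∃ e f, Good e f ∧ Plane F y e f) :
    SRow p T := by
  have helt : ∀ c : MulAut T, orderOf c = p → ∀ y ∈ W, Ind π ρ y c → IsScal F (y ^ p) ∧ ¬ IsScal F y := by
    intro c hc y hy hyc
    constructor
    · have h1 := hyc.pow p
      have h2 : c ^ p = 1 := by rw [← hc, pow_orderOf_eq_one]
      rw [h2] at h1
      obtain ⟨a, ha⟩ := huniq _ (pow_mem hy p) h1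
      rw [ha]
      exact isScal_scal a
    · intro hs
      obtain ⟨a, rfl⟩ := exists_scal hs
      have h1 : c = 1 := Ind.unique hπ hρ hyc (ind_scal hρlin a)
      rw [h1, orderOf_one] at hc
      exact hp.one_lt.ne hc
  intro c d hc hd
  obtain ⟨y, hy, hyc⟩ := hindW c hc
  obtain ⟨z, hz, hzd⟩ := hindW d hd
  obtain ⟨hyp, hyn⟩ := helt c hc y hy hyc
  obtain ⟨hzp, hzn⟩ := helt d hd z hz hzd
  obtain ⟨e, f, hef, hyP⟩ := hplane y hy hyp hyn
  obtain ⟨e', f', hef', hzP⟩ := hplane z hz hzp hzn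
  exact spair_of_planes hp hρlin hW hWρ huniq hrow hind hsl htr hc hd hy hz hyc hzd hef hef' hyP hzP

end planes

end Cfsg.Agent.H650.S5
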