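import Cfsg.Agent.H650.S5.PsuBB
import Cfsg.Agent.H869.S5.AB

/-!
# S2274, C4: pairs with a linear isometry of type B (helper650)

`F ^ n` hermitian, `|F| = q²`; `TB q p c` : `c` is a linear isometry, `p ∣ q + 1` and `c ^ p` is a scalar which is not
a `p`-th power.  `Al q c d` : a power of some `SU`-conjugate of `d` is proportional to `c`.

* `pair_B` : `c` of type B, `d` any semilinear isometry of order `p` modulo scalars, not of type B (any `n ≥ 3`):
  `UA q c d ∧ UB q p c d`;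
* `pair_BB` : both of type B, `n = p`: `Al q c d ∧ UB q p c d`; `ub_TB` : `UB` for any `n`;
* `pair_of_TB` : `n = p`, one of `c`, `d` of type B: `(UA q c d ∨ Al q c d) ∧ UB q p c d`, the two hypotheses of
  `H869.S5.srow_of_sem`.
-/

set_option autoImplicit false

namespace Cfsg.Agent.H650.S5U

open Cfsg Cfsg.Agent.LieClassical.HermBasic Cfsg.Agent.LieClassical.HermSiegel
open Cfsg.Agent.H957.T5V Cfsg.Agent.H957.T5Conf Cfsg.Agent.H957.T5Pairs Cfsg.Agent.H957.T5Two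
  Cfsg.Agent.H957.T5Semi Cfsg.Agent.H957.T5U
open Cfsg.Agent.H957.T5Main (isScal_of_pow_one not_isScal_smulA)
open Cfsg.Agent.H177.MeetPSU (rho rho_apply)
open Cfsg.Agent.H132.S5 Cfsg.Agent.H533.T5

variable {F : Type} [Field F] {n q p : ℕ} {σ τ : F ≃+* F}
  {c c' d d' : Equiv.Perm (Fin n → F)}

/-- Type B. -/
def TB (q p : ℕ) (c : Equiv.Perm (Fin n → F)) : Prop :=
  SI q (1 : F ≃+* F) c ∧ p ∣ q + 1 ∧
    ∃ l : F, l * l ^ q = 1 ∧ (∀ v, (c ^ p) v = l • v) ∧ ∀ t : F, t ^ p ≠ l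

/-- A power of some `SU`-conjugate of `d` is proportional to `c`. -/
def Al (q : ℕ) (c d : Equiv.Perm (Fin n → F)) : Prop :=
  ∃ s : SU n F q, ∃ j : ℕ, Scl F ((rho n F q s * d * (rho n F q s)⁻¹) ^ j) c

theorem UA.symm (h : UA q c d) : UA q d c := by
  obtain ⟨s, h⟩ := h
  refine ⟨s⁻¹, fun hP => h ?_⟩
  have h1 := (isSolvable_closure_pair_conj_iff (rho n F q s) d
    (rho n F q s⁻¹ * c * (rho n F q s⁻¹)⁻¹)).mpr hP
  have : rho n F q s * (rho n F q s⁻¹ * c * (rho n F q s⁻¹)⁻¹) * (rho n F q s)⁻¹ = c := by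
    rw [map_inv]; group
  rw [this, Set.pair_comm] at h1
  exact h1

theorem UA.of_scl [Nonempty (Fin n)] (hc : SI q σ c) (hd : SI q τ d) (hcc : Scl F c' c)
    (hdd : Scl F d' d) (h : UA q c' d') : UA q c d := by
  have : Nontrivial (Fin n → F) := Function.nontrivial
  obtain ⟨s, h⟩ := h
  refine ⟨s, fun hs => h ?_⟩
  refine Cfsg.Agent.H869.S5.isSolvable_of_scl hc.semi (hd.conj s).semi hcc ?_ hs
  exact Scl.mul ((si_rho s).semi.mul hd.semi) (Scl.mul (si_rho s).semi (Scl.refl _) hdd) (Scl.refl _)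

variable [Fintype F]

/-- The types of the elements of order `p` modulo scalars. -/
theorem cases_type (hF : Fintype.card F = q ^ 2) (hn : 3 ≤ n) (hp : p.Prime) (hp5 : 5 ≤ p)
    (hd : SI q τ d) (hdp : IsScal F (d ^ p)) :
    TB q p d ∨ ∃ t : Fˣ, (t : F) * (t : F) ^ q = 1 ∧ (smulA t d) ^ p = 1 ∧ (τ = 1 ∨ orderOf τ = p) := by
  have : Fact p.Prime := ⟨hp⟩
  have hn0 : 0 < n := by omega
  have hord : τ = 1 ∨ orderOf τ = p := by
    obtain ⟨a, ha⟩ := hdp
    have h1 : τ ^ p = 1 := by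
      have hv : ∃ v : Fin n → F, v ≠ 0 := ⟨fun _ => 1, fun h => one_ne_zero (congrFun h ⟨0, hn0⟩)⟩
      obtain ⟨v, hv⟩ := hv
      have ha0 : a ≠ 0 := by
        rintro rfl
        apply hv
        have h2 := ha v
        rw [zero_smul] at h2
        exact (d ^ p).injective (h2.trans (hd.pow p).semi.zero.symm)
      ext b
      have h2 := (hd.pow p).semi.smul b v
      rw [ha, ha, smul_smul, smul_smul, mul_comm a b] at h2
      have h3 : (b * a - (τ ^ p) b * a) • v = 0 := by rw [sub_smul, h2, sub_self]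
      have h4 := (smul_eq_zero.1 h3).resolve_right hv
      have h5 : b * a = (τ ^ p) b * a := sub_eq_zero.1 h4
      exact (mul_right_cancel₀ ha0 h5).symm
    by_cases h : τ = 1
    · exact Or.inl h
    · exact Or.inr (orderOf_eq_prime h1 h)
  rcases hord with rfl | hτ
  · rcases scale_lin hF hn0 hp (by omega) hd hdp with ⟨t, ht, h2⟩ | ⟨hpq, h2⟩
    · exact Or.inr ⟨t, ht, h2, Or.inl rfl⟩
    · exact Or.inl ⟨hd, hpq, h2⟩
  · obtain ⟨t, ht, h2⟩ := scale_semi hF hn0 hp (by omega) hτ hd hdp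
    exact Or.inr ⟨t, ht, h2, Or.inr hτ⟩

section core

variable (hRS : RSHyp.{0} p) (hF : Fintype.card F = q ^ 2) (hn : 3 ≤ n) (hp : p.Prime) (hp5 : 5 ≤ p)
  (hpF : (p : F) ≠ 0)

include hRS hF hn hp hp5 hpF

/-- **Type B against another type**, any `n`. -/
theorem pair_B (hc : TB q p c) (hd : SI q τ d) (hdp : IsScal F (d ^ p)) (hdn : ¬ IsScal F d)
    (hdB : ¬ TB q p d) : UA q c d ∧ UB q p c d := by
  have hne : Nonempty (Fin n) := ⟨⟨0, by omega⟩⟩
  obtain ⟨hcs, hpq, hcl⟩ := hc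
  rcases cases_type hF hn hp hp5 hd hdp with h | ⟨t, ht, h2, hτ⟩
  · exact absurd h hdB
  rcases hτ with rfl | hτ
  · exact ⟨UA.of_scl hcs hd (Scl.refl c) (scl_smulA t d)
      (ua_BA hRS hF hn hp hp5 hpF hcs hpq hcl (hd.smulA ht) h2 (not_isScal_smulA hdn)),
      UB.of_scl hcs hd (Scl.refl c) (scl_smulA t d)
      (ub_BA hF hn hp hp5 hpF hcs hpq hcl (hd.smulA ht) h2 (not_isScal_smulA hdn))⟩
  · exact ⟨UA.of_scl hcs hd (Scl.refl c) (scl_smulA t d)
      (ua_BC hRS hF hn hp hp5 hpF hcs hpq hcl hτ (hd.smulA ht) h2),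
      UB.of_scl hcs hd (Scl.refl c) (scl_smulA t d)
      (ub_BC hF hn hp hp5 hpF hcs hpq hcl hτ (hd.smulA ht) h2)⟩

omit hRS in
/-- Part (b) for two elements of type B, any `n`. -/
theorem ub_TB (hc : TB q p c) (hd : TB q p d) : UB q p c d := by
  obtain ⟨hcs, hpq, hcl⟩ := hc
  obtain ⟨hds, -, hdl⟩ := hd
  exact ub_BB hF hn hp hp5 hpF hcs hpq hcl hds hdl

end core

/-- Two elements of type B, `n = p`. -/
theorem al_TB (hF : Fintype.card F = q ^ 2) (hp : p.Prime) (hp5 : 5 ≤ p)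
    (hpF : (p : F) ≠ 0) {c d : Equiv.Perm (Fin p → F)} (hc : TB q p c) (hd : TB q p d) :
    Al q c d := by
  obtain ⟨hcs, hpq, l, hl1, hl2, hl3⟩ := hc
  obtain ⟨hds, -, m, hm1, hm2, hm3⟩ := hd
  obtain ⟨j, u, hu, hju⟩ := exists_pow_mul_pow hp hm1 hm3 hl1
  have hu0 : u ≠ 0 := left_ne_zero_of_mul (hu.symm ▸ one_ne_zero)
  have hz : SI q (1 : F ≃+* F) (smulA (Units.mk0 u hu0) (d ^ j)) := by
    have h := (hds.pow j).smulA (s := Units.mk0 u hu0) hu
    rwa [one_pow] at h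
  have hdj : ∀ v, ((d ^ j) ^ p) v = m ^ j • v := by
    intro v
    rw [← pow_mul, mul_comm, pow_mul]
    have h1 : ∀ k v, ((d ^ p) ^ k) v = m ^ k • v := by
      intro k
      induction k with
      | zero => intro v; simp
      | succ k ih =>
        intro v
        rw [pow_succ, Equiv.Perm.mul_apply, ih, hm2, smul_smul, pow_succ]
    exact h1 j v
  have hzp : ∀ v, ((smulA (Units.mk0 u hu0) (d ^ j)) ^ p) v = l • v := by
    have hdjs : SI q (1 : F ≃+* F) (d ^ j) := by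
      have := hds.pow j
      rwa [one_pow] at this
    have h1 : ∀ k v, ((smulA (Units.mk0 u hu0) (d ^ j)) ^ k) v = u ^ k • ((d ^ j) ^ k) v := by
      intro k
      induction k with
      | zero => intro v; simp
      | succ k ih =>
        intro v
        rw [pow_succ, Equiv.Perm.mul_apply, ih, smulA_apply, Units.val_mk0, pow_succ (d ^ j),
          Equiv.Perm.mul_apply]
        have h2 : ∀ (a : F) (x : Fin p → F), ((d ^ j) ^ k) (a • x) = a • ((d ^ j) ^ k) x := by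
          intro a x
          have := (hdjs.pow k).semi.smul a x
          rw [one_pow] at this
          exact this
        rw [h2, smul_smul, pow_succ]
    intro v
    rw [h1, hdj, smul_smul, mul_comm, hju]
  obtain ⟨s, hs⟩ := conj_B hF hp hp5 hpF hpq hcs hz hl1 hl2 hzp hl3
  refine ⟨s, j, u⁻¹, inv_ne_zero hu0, fun v => ?_⟩
  rw [← hs, conj_pow]
  simp only [Equiv.Perm.mul_apply, smulA_apply, Units.val_mk0]
  have h3 : ∀ (a : F) (x : Fin p → F), rho p F q s (a • x) = a • rho p F q s x := by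
    intro a x
    exact (si_rho s).semi.smul a x
  rw [h3, smul_smul, inv_mul_cancel₀ hu0, one_smul]

/-- **C4**: `n = p`, one of the two elements of type B. -/
theorem pair_of_TB (hRS : RSHyp.{0} p) (hF : Fintype.card F = q ^ 2) (hp : p.Prime) (hp5 : 5 ≤ p)
    (hpF : (p : F) ≠ 0) {c d : Equiv.Perm (Fin p → F)} (hc : SI q σ c) (hcp : IsScal F (c ^ p))
    (hcn : ¬ IsScal F c) (hd : SI q τ d) (hdp : IsScal F (d ^ p)) (hdn : ¬ IsScal F d)
    (h : TB q p c ∨ TB q p d) : (UA q c d ∨ Al q c d) ∧ UB q p c d := by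
  have hn : 3 ≤ p := by omega
  by_cases h1 : TB q p c
  · by_cases h2 : TB q p d
    · exact ⟨Or.inr (al_TB hF hp hp5 hpF h1 h2), ub_TB hF hn hp hp5 hpF h1 h2⟩
    · obtain ⟨h3, h4⟩ := pair_B hRS hF hn hp hp5 hpF h1 hd hdp hdn h2
      exact ⟨Or.inl h3, h4⟩
  · have h2 := h.resolve_left h1
    obtain ⟨h3, h4⟩ := pair_B hRS hF hn hp hp5 hpF h2 hc hcp hcn h1
    exact ⟨Or.inl h3.symm, h4.symm hd⟩

end Cfsg.Agent.H650.S5U
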