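import Cfsg.Agent.H43.SP.Inst
import Cfsg.Agent.H650.S5.PsuC4

/-!
# S2274, C4 in the form of `SPs` (helper650)

`sps_TB` : `n = p`, one of two semilinear isometries of type B: `SPs F p (rho p F q).range y z`.
`sps_TB'` : the same for a linear isometry `y` with `y ^ p = l`, `l` not a `p`-th power, `p ∣ q + 1`.
-/

set_option autoImplicit false

namespace Cfsg.Agent.H650.S5U

open Cfsg Cfsg.Agent.LieClassical.HermBasic Cfsg.Agent.LieClassical.HermSiegel
open Cfsg.Agent.H957.T5V Cfsg.Agent.H957.T5Pairs Cfsg.Agent.H957.T5Semi Cfsg.Agent.H957.T5U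
  Cfsg.Agent.H957.T5Tr
open Cfsg.Agent.H177.MeetPSU (rho rho_apply rho_injective ind_yy yy)
open Cfsg.Agent.H132.S5 Cfsg.Agent.H533.T5 Cfsg.Agent.H43.SP
open Cfsg.Agent.H903.SylSemi (Ind scal scal_apply)
open Cfsg.Agent.LieClassical.SUBasic Cfsg.Agent.ClassicalGeometry.PSUAutCount
  Cfsg.Agent.ClassicalGeometry.UnitAutBasic

variable {F : Type} [Field F] {n q p : ℕ} {σ τ : F ≃+* F}

theorem apair_iff {c d : Equiv.Perm (Fin n → F)} : APair (rho n F q).range c d ↔ UA q c d := by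
  constructor
  · rintro ⟨_, ⟨s, rfl⟩, h⟩
    exact ⟨s, h⟩
  · rintro ⟨s, h⟩
    exact ⟨_, ⟨s, rfl⟩, h⟩

theorem bps_iff {c d : Equiv.Perm (Fin n → F)} : BPs F p (rho n F q).range c d ↔ UB q p c d := by
  constructor
  · rintro ⟨_, ⟨s, rfl⟩, h⟩
    exact ⟨s, h⟩
  · rintro ⟨s, h⟩
    exact ⟨_, ⟨s, rfl⟩, h⟩

variable [Fintype F]

/-- Aligned elements. -/
theorem apair_of_al [IsSimpleGroup (PSU n F q)] (hna : ¬ IsMulCommutative (PSU n F q))
    (hRS : RSHyp.{0} p) (hF : Fintype.card F = q ^ 2) (hn : 3 ≤ n) (hp : p.Prime)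
    {c d : Equiv.Perm (Fin n → F)} (hc : SI q σ c) (hd : SI q τ d) (hcp : IsScal F (c ^ p))
    (hcn : ¬ IsScal F c) (h : Al q c d) : APair (rho n F q).range c d := by
  have hpf : Fact p.Prime := ⟨hp⟩
  have : Nonempty (Fin n) := ⟨⟨0, by omega⟩⟩
  have : Nontrivial (Fin n → F) := Function.nontrivial
  have : Finite (SU n F q) := Finite.of_injective _ (rho_injective (n := n) (F := F) (q := q))
  have : Finite (PSU n F q) := Finite.of_surjective _ (pr_surjective (n := n) (F := F) (q := q))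
  have hlin : ∀ s : SU n F q, Semi (1 : F ≃+* F) (rho n F q s) := fun s => (si_rho s).semi
  have hπ : Function.Surjective (pr n F q) := pr_surjective
  have hρ : Function.Injective (rho n F q) := rho_injective
  have huniq : ∀ y ∈ SIg F n q, Ind (pr n F q) (rho n F q) y 1 → IsScal F y :=
    fun y hy h => uniqSU hF hn hy h
  obtain ⟨A, rfl⟩ := exists_yy hF hc
  obtain ⟨B, rfl⟩ := exists_yy hF hd
  have hyc := ind_yy A σ
  have hzd := ind_yy B τ
  set γ : MulAut (PSU n F q) := _ with hγ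
  change Ind (pr n F q) (rho n F q) (yy A σ) γ at hyc
  set δ : MulAut (PSU n F q) := _ with hδ
  change Ind (pr n F q) (rho n F q) (yy B τ) δ at hzd
  have hord : orderOf γ = p := by
    refine orderOf_eq_prime ?_ ?_
    · obtain ⟨a, ha⟩ := exists_scal hcp
      have h1 := hyc.pow p
      rw [ha] at h1
      exact Ind.unique hπ hρ h1 (ind_scal hlin a)
    · intro h0
      rw [h0] at hyc
      exact hcn (huniq _ ⟨σ, hc⟩ hyc)
  obtain ⟨s, j, h⟩ := h
  refine apair_of_aut hπ hρ hyc hzd ?_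
  have hI := Cfsg.Agent.H533.T5.conj_range_normal (S := PSU n F q)
  refine APair.of_aligned (R := Inn (PSU n F q)) hRS le_rfl hord
    (fun r hr => hI.conj_mem _ hr γ) (s := MulAut.conj (pr n F q s)) ⟨pr n F q s, rfl⟩ (j : ℤ) (h := 1)
    (Commute.one_right _) (fun r _ => Commute.one_right _) ?_
    (Cfsg.Agent.H106.MT.not_solvable_inn hna ?_)
  · rw [mul_one, zpow_natCast]
    have e1 : (rho n F q s)⁻¹ = rho n F q s⁻¹ := (map_inv (rho n F q) s).symm
    have e2 : (MulAut.conj (pr n F q s))⁻¹ = MulAut.conj (pr n F q s⁻¹) := by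
      rw [map_inv (pr n F q), map_inv]
    have hz' : Ind (pr n F q) (rho n F q) (rho n F q s * yy B τ * (rho n F q s)⁻¹)
        (MulAut.conj (pr n F q s) * δ * (MulAut.conj (pr n F q s))⁻¹) := by
      rw [e1, e2]
      exact ((Ind.conj _ _ s).mul hzd).mul (Ind.conj _ _ s⁻¹)
    have h1 := hz'.pow j
    obtain ⟨t, ht, h⟩ := h
    have h2 : (rho n F q s * yy B τ * (rho n F q s)⁻¹) ^ j =
        scal F (Fin n → F) (Units.mk0 t ht) * yy A σ := by
      ext1 v
      rw [h, Equiv.Perm.mul_apply, scal_apply, Units.val_mk0]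
    rw [h2] at h1
    have h3 := (ind_scal (π := pr n F q) hlin (Units.mk0 t ht)).mul hyc
    rw [one_mul] at h3
    exact Ind.unique hπ hρ h1 h3
  · intro h0
    rw [h0, orderOf_one] at hord
    exact hp.one_lt.ne hord

/-- **C4**, `n = p`, one of the two elements of type B. -/
theorem sps_TB [IsSimpleGroup (PSU p F q)] (hna : ¬ IsMulCommutative (PSU p F q))
    (hRS : RSHyp.{0} p) (hF : Fintype.card F = q ^ 2) (hp : p.Prime) (hp5 : 5 ≤ p)
    (hpF : (p : F) ≠ 0) {c d : Equiv.Perm (Fin p → F)} (hc : SI q σ c) (hcp : IsScal F (c ^ p))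
    (hcn : ¬ IsScal F c) (hd : SI q τ d) (hdp : IsScal F (d ^ p)) (hdn : ¬ IsScal F d)
    (h : TB q p c ∨ TB q p d) : SPs F p (rho p F q).range c d := by
  obtain ⟨h1, h2⟩ := pair_of_TB hRS hF hp hp5 hpF hc hcp hcn hd hdp hdn h
  refine ⟨?_, bps_iff.2 h2⟩
  rcases h1 with h1 | h1
  · exact apair_iff.2 h1
  · exact apair_of_al hna hRS hF (by omega) hp hc hd hcp hcn h1

omit [Fintype F] in
/-- The automorphism of a linear semilinear isometry is trivial. -/
theorem si_of_lin (hn : 0 < n) {c : Equiv.Perm (Fin n → F)} (hc : SI q σ c)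
    (h1 : Semi (1 : F ≃+* F) c) : SI q (1 : F ≃+* F) c := by
  have hσ : σ = 1 := by
    ext a
    have hv : c (fun _ => 1) ≠ 0 := by
      intro h0
      have := c.injective (h0.trans h1.zero.symm)
      exact one_ne_zero (congrFun this ⟨0, hn⟩)
    have e1 := hc.semi.smul a (fun _ => 1)
    rw [h1.smul] at e1
    have e2 : (a - σ a) • c (fun _ => 1) = 0 := by
      rw [sub_smul, ← e1]
      exact sub_self _
    rcases smul_eq_zero.1 e2 with e3 | e3
    · exact (sub_eq_zero.1 e3).symm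
    · exact absurd e3 hv
  rw [← hσ]
  exact hc

/-- A linear isometry with `c ^ p = l`, `l` not a `p`-th power, is of type B. -/
theorem tb_of (hF : Fintype.card F = q ^ 2) (hn : 2 ≤ n) {c : Equiv.Perm (Fin n → F)}
    (hc : SI q (1 : F ≃+* F) c) (hpq : p ∣ q + 1) {l : F} (hl : ∀ v, (c ^ p) v = l • v)
    (hlp : ∀ t : F, t ^ p ≠ l) : TB q p c := by
  refine ⟨hc, hpq, l, ?_, hl, hlp⟩
  have h1 := (hc.pow p).herm (Pi.single ⟨0, by omega⟩ 1) (Pi.single ⟨0, by omega⟩ 1)
  rw [hl] at h1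
  have h2 : hermForm n F q (Pi.single ⟨0, by omega⟩ 1) (Pi.single ⟨0, by omega⟩ 1) = 1 := by
    have hq : q ≠ 0 := by
      rintro rfl
      simp at hF
    rw [hermForm]
    rw [Finset.sum_eq_single (⟨0, by omega⟩ : Fin n)]
    · simp
    · intro j _ hj
      simp [hj]
    · simp
  rw [herm_smul_left, herm_smul_right, h2] at h1
  rw [one_pow] at h1
  simpa using h1

/-- **C4**, `y` linear. -/
theorem sps_TB' [IsSimpleGroup (PSU p F q)] (hna : ¬ IsMulCommutative (PSU p F q))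
    (hRS : RSHyp.{0} p) (hF : Fintype.card F = q ^ 2) (hp : p.Prime) (hp5 : 5 ≤ p)
    (hpF : (p : F) ≠ 0) (hpq : p ∣ q + 1) {y z : Equiv.Perm (Fin p → F)} (hy : SI q σ y)
    (hz : SI q τ z) (hzp : IsScal F (z ^ p)) (hzn : ¬ IsScal F z) (hy1 : Semi (1 : F ≃+* F) y)
    {l : F} (hl : ∀ v, (y ^ p) v = l • v) (hlp : ∀ t : F, t ^ p ≠ l) :
    SPs F p (rho p F q).range y z := by
  have hp2 := hp.two_le
  have hB := tb_of hF hp2 (si_of_lin (by omega) hy hy1) hpq hl hlp
  refine sps_TB hna hRS hF hp hp5 hpF hB.1 ⟨l, hl⟩ ?_ hz hzp hzn (Or.inl hB)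
  rintro ⟨a, ha⟩
  obtain ⟨v, hv⟩ : ∃ v : Fin p → F, v ≠ 0 := ⟨fun _ => 1, fun h => one_ne_zero (congrFun h ⟨0, by omega⟩)⟩
  refine hlp a ?_
  have h1 : ∀ k : ℕ, ∀ v, (y ^ k) v = a ^ k • v := by
    intro k
    induction k with
    | zero => intro v; simp
    | succ k ih => intro v; rw [pow_succ, Equiv.Perm.mul_apply, ih, ha, smul_smul, pow_succ]
  have h2 := (hl v).symm.trans (h1 p v)
  have h3 : (l - a ^ p) • v = 0 := by rw [sub_smul, h2, sub_self]
  exact (sub_eq_zero.1 ((smul_eq_zero.1 h3).resolve_right hv)).symm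

end Cfsg.Agent.H650.S5U
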