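import Cfsg.Agent.H957.T5U14

/-!
# S2274, C4 (b): products with a linear isometry of type B (helper650)

`c` is a linear isometry of `F ^ n` (`|F| = q²`, `p ∣ q + 1`) whose `p`-th power is a scalar which is not a `p`-th
power.  For every `d` of order `p` modulo scalars some product `c * d'` with an `SU`-conjugate `d'` of `d` has no
`p`-power which is a scalar (`ub_B`).  The proofs are those of `H957.T5U4`, whose exponents are `1`.
-/

set_option autoImplicit false

namespace Cfsg.Agent.H650.S5U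

open Cfsg Cfsg.Agent.LieClassical.HermBasic Cfsg.Agent.LieClassical.HermSiegel
open Cfsg.Agent.H957.T5V Cfsg.Agent.H957.T5Conf Cfsg.Agent.H957.T5Pairs Cfsg.Agent.H957.T5Two
  Cfsg.Agent.H957.T5Semi Cfsg.Agent.H957.T5U
open Cfsg.Agent.H177.MeetPSU (rho rho_apply)

variable {F : Type} [Field F] {n q p : ℕ}
variable {σ τ : F ≃+* F} {c c' d d' : Equiv.Perm (Fin n → F)}

/-- For some `SU`-conjugate `d'` of `d` no `p`-power of `c * d'` is a scalar. -/
def UB (q p : ℕ) (c d : Equiv.Perm (Fin n → F)) : Prop :=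
  ∃ s : SU n F q, ∀ k : ℕ, ¬ IsScal F ((c * (rho n F q s * d * (rho n F q s)⁻¹)) ^ p ^ k)

theorem UB.of_scl (hc : SI q σ c) (hd : SI q τ d) (hcc : Scl F c' c) (hdd : Scl F d' d)
    (h : UB q p c' d') : UB q p c d := by
  obtain ⟨s, h⟩ := h
  refine ⟨s, fun k hk => h k ?_⟩
  have h1 : Scl F (rho n F q s * d' * (rho n F q s)⁻¹) (rho n F q s * d * (rho n F q s)⁻¹) :=
    Scl.mul ((si_rho s).semi.mul hd.semi) (Scl.mul (si_rho s).semi (Scl.refl _) hdd) (Scl.refl _)
  have h2 : Scl F (c' * (rho n F q s * d' * (rho n F q s)⁻¹))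
      (c * (rho n F q s * d * (rho n F q s)⁻¹)) :=
    Scl.mul hc.semi hcc h1
  exact ((h2.pow (hc.semi.mul (hd.conj s).semi) _).isScal_iff).2 hk

theorem UB.symm (hc : SI q σ c) (h : UB q p c d) : UB q p d c := by
  obtain ⟨s, h⟩ := h
  refine ⟨s⁻¹, fun m hm => h m ?_⟩
  have h1 : (c * (rho n F q s * d * (rho n F q s)⁻¹))
      = (rho n F q s * (rho n F q s⁻¹ * c * (rho n F q s⁻¹)⁻¹))
        * (d * (rho n F q s⁻¹ * c * (rho n F q s⁻¹)⁻¹))
        * (rho n F q s * (rho n F q s⁻¹ * c * (rho n F q s⁻¹)⁻¹))⁻¹ := by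
    rw [map_inv]
    group
  rw [h1, conj_pow]
  exact isScal_conj ((si_rho s).semi.mul (hc.conj s⁻¹).semi) hm

theorem ub_of_family [Fintype F] (hF : Fintype.card F = q ^ 2) (hd : SI q τ d) {k : ℕ}
    {a b : Fin k → (Fin n → F)} (ha : LinearIndependent F a) (hb : LinearIndependent F b)
    (hab : ∀ i j, hermForm n F q (a i) (a j) = hermForm n F q (b i) (b j))
    {z : Fin n → F} (hz : hermForm n F q z z ≠ 0) (hzb : ∀ i, hermForm n F q z (b i) = 0)
    (h : ∀ d' : Equiv.Perm (Fin n → F), SI q τ d' → ∀ s : SU n F q, (∀ i, act s (a i) = b i) →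
      (∀ x, d' (act s x) = act s (d x)) → (∀ m : ℕ, ¬ IsScal F ((c * d') ^ p ^ m))) :
    UB q p c d := by
  obtain ⟨s, hs⟩ := Cfsg.Agent.H77.Witt.exists_su_ext hF a b ha hb hab hz hzb
  refine ⟨s, fun m => ?_⟩
  refine h _ (hd.conj s) s hs (fun x => ?_) m
  rw [Equiv.Perm.mul_apply, Equiv.Perm.mul_apply]
  have h1 : (rho n F q s)⁻¹ (act s x) = x := by
    rw [← rho_apply, inv_apply_self]
  rw [h1, rho_apply]

variable [Fintype F]

theorem ub_K (hF : Fintype.card F = q ^ 2) (hn : 5 ≤ n) (hpF : (p : F) ≠ 0)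
    (hc : SI q (1 : F ≃+* F) c) (hd : SI q (1 : F ≃+* F) d) (h1 : D5 q c) (h2 : D5 q d) :
    UB q p c d := by
  obtain ⟨b, hb0, hb⟩ := exists_trace_zero_ne hF
  have hbq : b ^ q = -b := by linear_combination hb
  have h0q : (0 : F) ^ q = 0 := zero_pow_q hF
  have hnbq : (-b) ^ q = b := by rw [neg_pow_q hF, hbq, neg_neg]
  obtain ⟨w, hwli, w0, w1, w2⟩ := h1 0 (-b) 0 h0q (Or.inr (neg_ne_zero.2 hb0))
  obtain ⟨u, huli, u0, u1, u2⟩ := h2 0 b b h0q (Or.inr hb0)
  have hcc : ∀ x y, hermForm n F q (c x) (c y) = hermForm n F q x y := fun x y => hc.herm x y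
  have hdd : ∀ x y, hermForm n F q (d x) (d y) = hermForm n F q x y := fun x y => hd.herm x y
  have w1' : hermForm n F q w (c w) = b := by rw [herm_swap hF (c w) w, w1, hnbq]
  have w2' : hermForm n F q w (c (c w)) = 0 := by rw [herm_swap hF (c (c w)) w, w2, h0q]
  have u1' : hermForm n F q u (d u) = -b := by rw [herm_swap hF (d u) u, u1, hbq]
  have u2' : hermForm n F q u (d (d u)) = -b := by rw [herm_swap hF (d (d u)) u, u2, hbq]
  have hbli : LinearIndependent F ![c (c w), c w, w + c w] := by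
    rw [li3_iff] at hwli ⊢
    intro x y z h
    obtain ⟨e1, e2, e3⟩ := hwli z (y + z) x (by rw [← h]; module)
    subst e1 e3
    exact ⟨rfl, by simpa using e2, rfl⟩
  obtain ⟨z, hz, hzb⟩ := exists_z hF hbli (by omega) (e := c (c w)) (f := c w)
    (Submodule.subset_span ⟨0, rfl⟩) (Submodule.subset_span ⟨1, rfl⟩)
    (by rw [hcc, hcc, w0]) (by rw [hcc, w1]; exact neg_ne_zero.2 hb0)
  refine ub_of_family hF hd (a := ![u, d u, d (d u)]) huli hbli ?_ hz hzb ?_
  · intro i j
    fin_cases i <;> fin_cases j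
    · change hermForm n F q u u = hermForm n F q (c (c w)) (c (c w))
      rw [hcc, hcc, u0, w0]
    · change hermForm n F q u (d u) = hermForm n F q (c (c w)) (c w)
      rw [hcc, u1', w1]
    · change hermForm n F q u (d (d u)) = hermForm n F q (c (c w)) (w + c w)
      rw [herm_add_right hF, hcc, w2, w1, u2', zero_add]
    · change hermForm n F q (d u) u = hermForm n F q (c w) (c (c w))
      rw [hcc, u1, w1']
    · change hermForm n F q (d u) (d u) = hermForm n F q (c w) (c w)
      rw [hcc, hdd, u0, w0]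
    · change hermForm n F q (d u) (d (d u)) = hermForm n F q (c w) (w + c w)
      rw [herm_add_right hF, hcc, hdd, w1, w0, u1', add_zero]
    · change hermForm n F q (d (d u)) u = hermForm n F q (w + c w) (c (c w))
      rw [herm_add_left, hcc, w2', w1', u2, zero_add]
    · change hermForm n F q (d (d u)) (d u) = hermForm n F q (w + c w) (c w)
      rw [herm_add_left, hcc, hdd, w1', w0, u1, add_zero]
    · change hermForm n F q (d (d u)) (d (d u)) = hermForm n F q (w + c w) (w + c w)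
      rw [herm_add_left, herm_add_right hF, herm_add_right hF, hcc, hdd, hdd, w1', w1, w0, u0]
      ring
  · intro d' hd' s hs hds m
    have s0 : act s u = c (c w) := hs 0
    have s1 : act s (d u) = c w := hs 1
    have s2 : act s (d (d u)) = w + c w := hs 2
    refine not_scal_jordan (hc.semi.mul hd'.semi) (v0 := c (c w)) (v1 := c w) ?_ ?_ ?_
      (cast_pow_ne hpF m)
    · exact hbli.ne_zero 0
    · rw [Equiv.Perm.mul_apply]
      conv_lhs => rw [← s0, hds, s1]
    · rw [Equiv.Perm.mul_apply]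
      conv_lhs => rw [← s1, hds, s2, hc.semi.add]

theorem ub_R (hF : Fintype.card F = q ^ 2) (hn : 5 ≤ n) (hpF : (p : F) ≠ 0)
    (hc : SI q (1 : F ≃+* F) c) (hd : SI q τ d) (h1 : D5 q c) (h2 : RI q d) :
    UB q p c d := by
  obtain ⟨u0, u1, hu1, n1, n01, n0, hβ⟩ := h2
  have h1q : (1 : F) ^ q = 1 := one_pow q
  -- data for `c`, shifted by `c`
  obtain ⟨w, hwli, w0, w1, w2⟩ := h1 1 1 (1 - hermForm n F q u0 (d u0)) h1q (Or.inl one_ne_zero)
  have hcc : ∀ x y, hermForm n F q (c x) (c y) = hermForm n F q x y := fun x y => hc.herm x y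
  have w1' : hermForm n F q w (c w) = 1 := by rw [herm_swap hF (c w) w, w1, h1q]
  have n01' : hermForm n F q u1 u0 = 0 := herm_eq_zero_swap hF n01
  have n10 : hermForm n F q (d u0) u1 = 0 := by
    have := hd.herm u0 u1
    rwa [hu1, n01, map_zero] at this
  have n10' : hermForm n F q u1 (d u0) = 0 := herm_eq_zero_swap hF n10
  have n00 : hermForm n F q (d u0) (d u0) = 0 := by rw [hd.herm, n0, map_zero]
  -- `v1 = c w`, `c⁻¹ v1 = w`
  have hbli : LinearIndependent F ![c w, c (c w) - c w, c w - w] := by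
    rw [li3_iff] at hwli ⊢
    intro x y z h
    obtain ⟨e1, e2, e3⟩ := hwli (-z) (x - y + z) y (by rw [← h]; module)
    have e1' : z = 0 := neg_eq_zero.1 e1
    subst e1' e3
    exact ⟨by simpa using e2, rfl, rfl⟩
  have hali : LinearIndependent F ![u1, u0, d u0] := by
    rw [li3_iff]
    intro x y z h
    have h3 : hermForm n F q (x • u1 + y • u0 + z • d u0) u1 = 0 := by
      rw [h]; exact herm_zero_left _
    rw [herm_add_left, herm_add_left, herm_smul_left, herm_smul_left, herm_smul_left, n1, n01, n10,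
      mul_zero, mul_zero, mul_one, add_zero, add_zero] at h3
    have h4 : hermForm n F q (x • u1 + y • u0 + z • d u0) (d u0) = 0 := by
      rw [h]; exact herm_zero_left _
    rw [herm_add_left, herm_add_left, herm_smul_left, herm_smul_left, herm_smul_left, n10', n00,
      mul_zero, mul_zero, zero_add, add_zero] at h4
    have hy : y = 0 := (mul_eq_zero.1 h4).resolve_right hβ
    have h5 : hermForm n F q u0 (x • u1 + y • u0 + z • d u0) = 0 := by
      rw [h]; exact herm_zero_right hF _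
    rw [herm_add_right hF, herm_add_right hF, herm_smul_right, herm_smul_right, herm_smul_right,
      n01, n0, mul_zero, mul_zero, zero_add, zero_add] at h5
    exact ⟨h3, hy, (pow_q_eq_zero hF).1 ((mul_eq_zero.1 h5).resolve_right hβ)⟩
  have k00 : hermForm n F q (c (c w) - c w) (c (c w) - c w) = 0 := by
    simp only [herm_sub_left, herm_sub_right hF, hcc, w0, w1, w1']
    ring
  have k22 : hermForm n F q (c w - w) (c w - w) = 0 := by
    simp only [herm_sub_left, herm_sub_right hF, hcc, w0, w1, w1']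
    ring
  have k12 : hermForm n F q (c (c w) - c w) (c w - w) = hermForm n F q u0 (d u0) := by
    simp only [herm_sub_left, herm_sub_right hF, hcc, w0, w1, w2]
    ring
  obtain ⟨z, hz, hzb⟩ := exists_z hF hbli (by omega) (e := c (c w) - c w) (f := c w - w)
    (Submodule.subset_span ⟨1, rfl⟩) (Submodule.subset_span ⟨2, rfl⟩) k00 (by rw [k12]; exact hβ)
  refine ub_of_family hF hd (a := ![u1, u0, d u0]) hali hbli ?_ hz hzb ?_
  · intro i j
    fin_cases i <;> fin_cases j
    · change hermForm n F q u1 u1 = hermForm n F q (c w) (c w)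
      rw [hcc, n1, w0]
    · change hermForm n F q u1 u0 = hermForm n F q (c w) (c (c w) - c w)
      rw [herm_sub_right hF, hcc, hcc, w1', w0, n01', sub_self]
    · change hermForm n F q u1 (d u0) = hermForm n F q (c w) (c w - w)
      rw [herm_sub_right hF, hcc, w1, w0, n10', sub_self]
    · change hermForm n F q u0 u1 = hermForm n F q (c (c w) - c w) (c w)
      rw [herm_sub_left, hcc, hcc, w1, w0, n01, sub_self]
    · exact n0.trans k00.symm
    · exact k12.symm
    · change hermForm n F q (d u0) u1 = hermForm n F q (c w - w) (c w)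
      rw [herm_sub_left, hcc, w1', w0, n10, sub_self]
    · change hermForm n F q (d u0) u0 = hermForm n F q (c w - w) (c (c w) - c w)
      rw [herm_swap hF u0 (d u0), herm_swap hF (c (c w) - c w) (c w - w), k12]
    · exact n00.trans k22.symm
  · intro d' hd' s hs hds m
    have s0 : act s u1 = c w := hs 0
    have s1 : act s u0 = c (c w) - c w := hs 1
    have s2 : act s (d u0) = c w - w := hs 2
    refine not_scal_jordan (hc.semi.mul hd'.semi) (v0 := c (c w) - c w) (v1 := c w) ?_ ?_ ?_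
      (cast_pow_ne hpF m)
    · exact hbli.ne_zero 1
    · rw [Equiv.Perm.mul_apply]
      conv_lhs => rw [← s1, hds, s2, hc.semi.sub]
    · rw [Equiv.Perm.mul_apply]
      conv_lhs => rw [← s0, hds, hu1, s0]
      module


section core

variable (hF : Fintype.card F = q ^ 2) (hn : 3 ≤ n) (hp : p.Prime) (hp5 : 5 ≤ p)
  (hpF : (p : F) ≠ 0)

include hF hn hp hp5 hpF

/-- type B against a linear isometry of order `p` -/
theorem ub_BA (hc : SI q (1 : F ≃+* F) c) (hpq : p ∣ q + 1)
    (h : ∃ l : F, l * l ^ q = 1 ∧ (∀ v, (c ^ p) v = l • v) ∧ ∀ t : F, t ^ p ≠ l)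
    (hd : SI q (1 : F ≃+* F) d) (hdp : d ^ p = 1) (hdn : ¬ IsScal F d) : UB q p c d := by
  obtain ⟨h1, h2⟩ := d5_B hF hp hp5 hpF (by omega) hc hpq h
  obtain ⟨s, hs, h3⟩ := ri_eig hF hp hpq hn hd hdp hdn
  exact UB.of_scl hc hd (Scl.refl c) (scl_smulA s d) (ub_R hF h2 hpF hc (hd.smulA hs) h1 h3)

/-- type B against type B -/
theorem ub_BB (hc : SI q (1 : F ≃+* F) c) (hpq : p ∣ q + 1)
    (h : ∃ l : F, l * l ^ q = 1 ∧ (∀ v, (c ^ p) v = l • v) ∧ ∀ t : F, t ^ p ≠ l)
    (hd : SI q (1 : F ≃+* F) d)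
    (h' : ∃ l : F, l * l ^ q = 1 ∧ (∀ v, (d ^ p) v = l • v) ∧ ∀ t : F, t ^ p ≠ l) :
    UB q p c d := by
  obtain ⟨h1, h2⟩ := d5_B hF hp hp5 hpF (by omega) hc hpq h
  obtain ⟨h3, h4⟩ := d5_B hF hp hp5 hpF (by omega) hd hpq h'
  exact ub_K hF h2 hpF hc hd h1 h3

/-- type B against a field automorphism of order `p` -/
theorem ub_BC (hc : SI q (1 : F ≃+* F) c) (hpq : p ∣ q + 1)
    (h : ∃ l : F, l * l ^ q = 1 ∧ (∀ v, (c ^ p) v = l • v) ∧ ∀ t : F, t ^ p ≠ l)
    (hτ : orderOf τ = p) (hd : SI q τ d) (hdp : d ^ p = 1) : UB q p c d := by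
  obtain ⟨h1, h2⟩ := d5_B hF hp hp5 hpF (by omega) hc hpq h
  exact ub_R hF h2 hpF hc hd h1 (ri_semi hF hp (by omega) hτ hd hdp hn)

end core

end Cfsg.Agent.H650.S5U
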