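import Cfsg.Agent.H132.S5.Pairs
import Cfsg.Agent.H650.S5.Rel
import Cfsg.Agent.H650.S5.PsuB
import Cfsg.Agent.H724.UThreeA

/-!
# S2274, C4 (a), first part: type B against the elements with eigenvectors (helper650)

* `solvable_of_rel`, `solvable_of_diag` : solvability of two-generator groups;
* `plane` : two semilinear isometries of the plane with a common "diagonal form";
* `ua_of_plane` : the embedding of the plane as `⟨v, c v⟩`, `c` with all data (`D5`);
* `ua_BA`, `ua_BC`.
-/

set_option autoImplicit false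

namespace Cfsg.Agent.H650.S5U

open Cfsg Cfsg.Agent.LieClassical.HermBasic Cfsg.Agent.LieClassical.HermSiegel
open Cfsg.Agent.H957.T5V Cfsg.Agent.H957.T5Conf Cfsg.Agent.H957.T5Pairs Cfsg.Agent.H957.T5Two
  Cfsg.Agent.H957.T5Semi Cfsg.Agent.H957.T5U
open Cfsg.Agent.H177.MeetPSU (rho rho_apply)
open Cfsg.Agent.H132.S5 Cfsg.Agent.H533.T5
open Cfsg.Agent.H650.S5 (J J_add J_smul J_injective)

section gen

variable {A B : Type*} [Group A] [Group B]

/-- Solvability through a relation. -/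
theorem solvable_of_rel (R : Subgroup (A × B)) (hR : ∀ b : B, ((1 : A), b) ∈ R → b = 1) {a a' : A}
    {b b' : B} (h1 : (a, b) ∈ R) (h2 : (a', b') ∈ R)
    (hs : Group.IsSolvable ↥(Subgroup.closure ({a, a'} : Set A))) :
    Group.IsSolvable ↥(Subgroup.closure ({b, b'} : Set B)) := by
  let K : Subgroup (A × B) := R ⊓ (Subgroup.closure ({a, a'} : Set A)).comap (MonoidHom.fst A B)
  let f₁ : ↥K →* ↥(Subgroup.closure ({a, a'} : Set A)) :=
    ((MonoidHom.fst A B).comp K.subtype).codRestrict _ (fun x => x.2.2)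
  have hinj : Function.Injective f₁ := by
    rw [injective_iff_map_eq_one]
    rintro ⟨⟨x, y⟩, hxy⟩ h
    have hx : x = 1 := congrArg Subtype.val h
    subst hx
    have hy := hR y hxy.1
    subst hy
    rfl
  have hK : Group.IsSolvable ↥K := Group.isSolvable_of_isSolvable_injective hinj
  let f₂ : ↥K →* B := (MonoidHom.snd A B).comp K.subtype
  have hr : Group.IsSolvable ↥f₂.range :=
    Group.isSolvable_of_surjective (f := f₂.rangeRestrict) f₂.rangeRestrict_surjective
  refine isSolvable_of_le ?_ hr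
  rw [Subgroup.closure_le]
  rintro x hx
  rcases hx with rfl | hx
  · exact ⟨⟨(a, x), h1, Subgroup.subset_closure (by simp)⟩, rfl⟩
  · rw [Set.mem_singleton_iff] at hx
    subst hx
    exact ⟨⟨(a', x), h2, Subgroup.subset_closure (by simp)⟩, rfl⟩

/-- `⟨c, d⟩` is solvable if `c` normalises the abelian group `D` and `c⁻¹ d ∈ D`. -/
theorem solvable_of_diag {D : Subgroup A} (hD : ∀ a ∈ D, ∀ b ∈ D, a * b = b * a) {c d : A}
    (hc : ∀ a ∈ D, c * a * c⁻¹ ∈ D) (hc' : ∀ a ∈ D, c⁻¹ * a * c ∈ D) (hcd : c⁻¹ * d ∈ D) :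
    Group.IsSolvable ↥(Subgroup.closure ({c, d} : Set A)) := by
  let N : Subgroup A := Subgroup.normalizer (D : Set A)
  have hcN : c ∈ N := by
    rw [Subgroup.mem_normalizer_iff]
    intro h
    constructor
    · exact hc h
    · intro hh
      have := hc' _ hh
      have h2 : c⁻¹ * (c * h * c⁻¹) * c = h := by group
      rwa [h2] at this
  have hDN : D ≤ N := Subgroup.le_normalizer
  have hdN : d ∈ N := by
    have : d = c * (c⁻¹ * d) := by group
    rw [this]
    exact mul_mem hcN (hDN hcd)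
  have hle : Subgroup.closure ({c, d} : Set A) ≤ N := by
    rw [Subgroup.closure_le]
    rintro x hx
    rcases hx with rfl | hx
    · exact hcN
    · rw [Set.mem_singleton_iff] at hx
      rw [hx]; exact hdN
  let D' : Subgroup N := D.subgroupOf N
  have hDn : D'.Normal := Subgroup.normal_in_normalizer
  have hcomm : ∀ x y : D', x * y = y * x := by
    rintro ⟨⟨x, hx⟩, hx'⟩ ⟨⟨y, hy⟩, hy'⟩
    apply Subtype.ext
    apply Subtype.ext
    exact hD x hx' y hy'
  have hDs : Group.IsSolvable D' := Group.isSolvable_of_comm hcomm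
  let f : N →* N ⧸ D' := QuotientGroup.mk' D'
  let C : Subgroup (N ⧸ D') := Subgroup.zpowers (f ⟨c, hcN⟩)
  have hCs : Group.IsSolvable C := by
    have : IsMulCommutative C := inferInstance
    exact Group.isSolvable_of_comm fun a b => this.is_comm.comm a b
  let M : Subgroup N := C.comap f
  have hMs : Group.IsSolvable M := by
    let g : M →* C := (f.comp M.subtype).codRestrict C (fun x => x.2)
    let i : D'.subgroupOf M →* M := (D'.subgroupOf M).subtype
    have h1 : Group.IsSolvable (D'.subgroupOf M) := by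
      refine Group.isSolvable_of_isSolvable_injective (G' := D')
        (f := ((M.subtype).comp (D'.subgroupOf M).subtype).codRestrict D' (fun x => x.2)) ?_
      intro a b hab
      apply Subtype.ext
      apply Subtype.ext
      have h := congrArg (fun x : D' => (x : N)) hab
      exact h
    refine Group.isSolvable_of_ker_le_range i g ?_
    intro x hx
    refine ⟨⟨x, ?_⟩, rfl⟩
    have h2 : f (x : N) = 1 := congrArg Subtype.val hx
    rw [Subgroup.mem_subgroupOf]
    exact (QuotientGroup.eq_one_iff _).1 h2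
  have hmap : Subgroup.closure ({c, d} : Set A) ≤ M.map N.subtype := by
    rw [Subgroup.closure_le]
    rintro x hx
    rcases hx with rfl | hx
    · exact ⟨⟨x, hcN⟩, Subgroup.mem_zpowers _, rfl⟩
    · rw [Set.mem_singleton_iff] at hx
      subst hx
      refine ⟨⟨x, hdN⟩, ?_, rfl⟩
      change f ⟨x, hdN⟩ ∈ C
      have h3 : f ⟨x, hdN⟩ = f ⟨c, hcN⟩ := by
        have h4 : (⟨c, hcN⟩ : N)⁻¹ * ⟨x, hdN⟩ ∈ D' := hcd
        exact ((QuotientGroup.eq (s := D')).2 h4).symm
      rw [h3]
      exact Subgroup.mem_zpowers _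
  refine isSolvable_of_le hmap ?_
  exact Group.isSolvable_of_surjective (f := N.subtype.subgroupMap M)
    (N.subtype.subgroupMap_surjective M)

end gen

section plane

variable {F : Type} [Field F] {n q p : ℕ} {σ τ : F ≃+* F}

theorem herm_two (u v : Fin 2 → F) :
    hermForm 2 F q u v = u 0 * v 0 ^ q + u 1 * v 1 ^ q := by
  simp [hermForm, Fin.sum_univ_two]

/-- The semilinear map `v ↦ (b τ(v 0), a τ(v 1))`. -/
def DG (τ : F ≃+* F) (b a : F) (y : Equiv.Perm (Fin 2 → F)) : Prop :=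
  ∀ v, y v = ![b * τ (v 0), a * τ (v 1)]

/-- The diagonal linear maps. -/
def DD (F : Type) [Field F] : Subgroup (Equiv.Perm (Fin 2 → F)) where
  carrier := {u | ∃ α β : Fˣ, ∀ v, u v = ![(α : F) * v 0, (β : F) * v 1]}
  one_mem' := ⟨1, 1, fun v => by
    funext i
    fin_cases i <;> simp⟩
  mul_mem' := by
    rintro x y ⟨α, β, hx⟩ ⟨α', β', hy⟩
    refine ⟨α * α', β * β', fun v => ?_⟩
    rw [Equiv.Perm.mul_apply, hy, hx]
    funext i
    fin_cases i <;> simp [mul_assoc]
  inv_mem' := by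
    rintro x ⟨α, β, hx⟩
    refine ⟨α⁻¹, β⁻¹, fun v => ?_⟩
    apply x.injective
    rw [apply_inv_self, hx]
    funext i
    fin_cases i <;> simp

theorem DD_comm : ∀ a ∈ DD F, ∀ b ∈ DD F, a * b = b * a := by
  rintro x ⟨α, β, hx⟩ y ⟨α', β', hy⟩
  ext1 v
  rw [Equiv.Perm.mul_apply, Equiv.Perm.mul_apply, hx, hy, hx, hy]
  funext i
  fin_cases i
  · simp; ring
  · simp; ring

theorem DG.conj {b a : F} {y : Equiv.Perm (Fin 2 → F)} (hy : DG τ b a y) :
    ∀ u ∈ DD F, y * u * y⁻¹ ∈ DD F := by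
  rintro u ⟨α, β, hu⟩
  refine ⟨Units.mapEquiv τ.toMulEquiv α, Units.mapEquiv τ.toMulEquiv β, fun v => ?_⟩
  obtain ⟨w, rfl⟩ := y.surjective v
  rw [Equiv.Perm.mul_apply, Equiv.Perm.mul_apply, inv_apply_self, hu, hy, hy]
  funext i
  fin_cases i
  · simp; ring
  · simp; ring

theorem DG.conj' {b a : F} {y : Equiv.Perm (Fin 2 → F)} (hy : DG τ b a y) :
    ∀ u ∈ DD F, y⁻¹ * u * y ∈ DD F := by
  rintro u ⟨α, β, hu⟩
  refine ⟨Units.mapEquiv τ.symm.toMulEquiv α, Units.mapEquiv τ.symm.toMulEquiv β, fun v => ?_⟩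
  apply y.injective
  rw [Equiv.Perm.mul_apply, Equiv.Perm.mul_apply, apply_inv_self, hu, hy, hy]
  funext i
  fin_cases i
  · simp; ring
  · simp; ring

theorem DG.inv_mul {b a b' a' : F} (hb : b ≠ 0) (ha : a ≠ 0) (hb' : b' ≠ 0) (ha' : a' ≠ 0)
    {y y' : Equiv.Perm (Fin 2 → F)} (hy : DG τ b a y) (hy' : DG τ b' a' y') : y⁻¹ * y' ∈ DD F := by
  refine ⟨Units.mk0 (τ.symm (b' / b)) (by simp [hb, hb']),
    Units.mk0 (τ.symm (a' / a)) (by simp [ha, ha']), fun v => ?_⟩
  apply y.injective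
  rw [Equiv.Perm.mul_apply, apply_inv_self, hy, hy']
  funext i
  fin_cases i
  · simp; field_simp
  · simp; field_simp

/-- The entries of an element of `SU_2`. -/
theorem su2_entries [Fintype F] (hF : Fintype.card F = q ^ 2) (g : SU 2 F q) :
    ∃ s t : F, s * s ^ q + t * t ^ q = 1 ∧
      ∀ v : Fin 2 → F, act g v = ![s * v 0 - t ^ q * v 1, t * v 0 + s ^ q * v 1] := by
  set M : Matrix (Fin 2) (Fin 2) F := ((g : Matrix.SpecialLinearGroup (Fin 2) F) :
    Matrix (Fin 2) (Fin 2) F) with hM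
  have hact : ∀ v : Fin 2 → F, act g v = ![M 0 0 * v 0 + M 0 1 * v 1, M 1 0 * v 0 + M 1 1 * v 1] := by
    intro v
    change M.mulVec v = _
    funext i
    fin_cases i <;> simp [Matrix.mulVec, dotProduct, Fin.sum_univ_two]
  have hdet : M 0 0 * M 1 1 - M 0 1 * M 1 0 = 1 := by
    have := (g : Matrix.SpecialLinearGroup (Fin 2) F).2
    rwa [Matrix.det_fin_two] at this
  have h0q : (0 : F) ^ q = 0 := zero_pow_q hF
  have e00 : M 0 0 * M 0 0 ^ q + M 1 0 * M 1 0 ^ q = 1 := by
    have h := herm_act g (![1, 0] : Fin 2 → F) ![1, 0]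
    rw [hact, herm_two, herm_two] at h
    simpa [h0q] using h
  have e10 : M 0 1 * M 0 0 ^ q + M 1 1 * M 1 0 ^ q = 0 := by
    have h := herm_act g (![0, 1] : Fin 2 → F) ![1, 0]
    rw [hact, hact, herm_two, herm_two] at h
    simpa [h0q] using h
  have e1 : M 1 1 = M 0 0 ^ q := by
    linear_combination (-M 1 1) * e00 + M 0 0 ^ q * hdet + M 1 0 * e10
  have e2 : M 0 1 = -M 1 0 ^ q := by
    linear_combination (-M 0 1) * e00 + M 0 0 * e10 - M 1 0 ^ q * hdet
  refine ⟨M 0 0, M 1 0, e00, fun v => ?_⟩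
  rw [hact, ← e1, e2]
  funext i
  fin_cases i
  · simp; ring
  · simp

/-- Some `SU`-conjugate of `d` generates with `c` a non-solvable group. -/
def UA (q : ℕ) (c d : Equiv.Perm (Fin n → F)) : Prop :=
  ∃ s : SU n F q, ¬ Group.IsSolvable ↥(Subgroup.closure
    ({c, rho n F q s * d * (rho n F q s)⁻¹} : Set (Equiv.Perm (Fin n → F))))

/-- `x` restricts to `x0` along `ι`, as a subgroup of pairs. -/
def RR {S X : Type*} (ι : S → X) : Subgroup (Equiv.Perm X × Equiv.Perm S) where
  carrier := {x | Res ι x.1 x.2}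
  one_mem' := Res.one
  mul_mem' h h' := Res.mul h h'
  inv_mem' h := Res.inv h

theorem ua_of_plane [Fintype F] (hF : Fintype.card F = q ^ 2) (hn : 5 ≤ n)
    {c d : Equiv.Perm (Fin n → F)} (hc : SI q (1 : F ≃+* F) c) (hD5 : D5 q c) (hd : SI q τ d)
    {f0 f1 f2 : Fin n → F}
    (hf : ∀ i j : Fin 3, hermForm n F q ((![f0, f1, f2] : Fin 3 → (Fin n → F)) i)
      ((![f0, f1, f2] : Fin 3 → (Fin n → F)) j) = if i = j then 1 else 0)
    {b a a' : F} (hb : b ≠ 0) (ha : a ≠ 0) (ha' : a' ≠ 0) (h0 : d f0 = b • f0)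
    (h1 : d f1 = a • f1) (h2 : d f2 = a' • f2) {y1 y2 : Equiv.Perm (Fin 2 → F)}
    (hy1 : DG τ b a y1) (hy2 : DG τ b a' y2) (g : SU 2 F q)
    (hns : ¬ Group.IsSolvable ↥(Subgroup.closure
      ({y1, rho 2 F q g * y2 * (rho 2 F q g)⁻¹} : Set (Equiv.Perm (Fin 2 → F))))) :
    UA q c d := by
  obtain ⟨s, t, hst, hg⟩ := su2_entries hF g
  have ht : t ≠ 0 := by
    rintro rfl
    apply hns
    rw [zero_mul, add_zero] at hst
    have hs0 : s ≠ 0 := left_ne_zero_of_mul (hst.symm ▸ one_ne_zero)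
    have hs1 : s ^ q ≠ 0 := pow_ne_zero _ hs0
    have hgD : rho 2 F q g ∈ DD F := ⟨Units.mk0 s hs0, Units.mk0 (s ^ q) hs1, fun v => by
      rw [rho_apply, hg]
      simp [zero_pow_q hF]⟩
    refine solvable_of_diag DD_comm hy1.conj hy1.conj' ?_
    have h3 : y1⁻¹ * (rho 2 F q g * y2 * (rho 2 F q g)⁻¹) =
        (y1⁻¹ * rho 2 F q g * y1) * (y1⁻¹ * y2) * (rho 2 F q g)⁻¹ := by group
    rw [h3]
    exact mul_mem (mul_mem (hy1.conj' _ hgD) (DG.inv_mul hb ha hb ha' hy1 hy2)) (inv_mem hgD)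
  have htq : t ^ q ≠ 0 := pow_ne_zero _ ht
  have h1q : (1 : F) ^ q = 1 := one_pow q
  obtain ⟨v, -, v0, v1, v2⟩ := hD5 1 s (s * s) h1q (Or.inl one_ne_zero)
  have hcc : ∀ x y, hermForm n F q (c x) (c y) = hermForm n F q x y := fun x y => hc.herm x y
  have hsqq : (s ^ q) ^ q = s := pow_q_pow_q hF s
  have v1' : hermForm n F q v (c v) = s ^ q := by rw [herm_swap hF (c v) v, v1]
  have v2' : hermForm n F q v (c (c v)) = s ^ q * s ^ q := by
    rw [herm_swap hF (c (c v)) v, v2, mul_pow]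
  have v21 : hermForm n F q (c (c v)) (c v) = s := by rw [hcc, v1]
  set w1 : Fin n → F := t⁻¹ • (c v - s • v) with hw1
  set W : Fin n → F := (-t⁻¹) • (v - s ^ q • c v) with hW
  have hcW : c (c⁻¹ W) = W := apply_inv_self c W
  have hcl : ∀ (x y : F) (u w : Fin n → F), c (x • u + y • w) = x • c u + y • c w := by
    intro x y u w
    rw [hc.semi.add, hc.semi.smul, hc.semi.smul]
    rfl
  have hA : c v = s • v + t • w1 := by
    rw [hw1, smul_smul, mul_inv_cancel₀ ht, one_smul]
    abel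
  have hk : t⁻¹ = t ^ q + s ^ q * t⁻¹ * s := by
    field_simp
    linear_combination -hst
  have hB : W = (-t ^ q) • v + s ^ q • w1 := by
    have e1 : (-t⁻¹) • (v - s ^ q • c v) =
        (-(t ^ q + s ^ q * t⁻¹ * s)) • v + (t⁻¹ * s ^ q) • c v := by
      rw [← hk]
      module
    rw [hW, hw1, e1]
    module
  have hJ : ∀ u : Fin 2 → F, J v w1 (act g u) = c (J v (c⁻¹ W) u) := by
    intro u
    rw [hg]
    simp only [J]
    rw [hcl, hcW, hA, hB]
    simp only [Matrix.cons_val_zero, Matrix.cons_val_one]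
    module
  -- the Gram matrix
  have htt : t⁻¹ * t⁻¹ ^ q * (t * t ^ q) = 1 := by
    rw [inv_pow]
    field_simp
  have hnn : (-t⁻¹) * (-t⁻¹) ^ q = t⁻¹ * t⁻¹ ^ q := by
    rw [neg_pow_q hF]
    ring
  have g10 : hermForm n F q w1 v = 0 := by
    rw [hw1, herm_smul_left, herm_sub_left, herm_smul_left, v0, v1]
    ring
  have g11 : hermForm n F q w1 w1 = 1 := by
    rw [hw1, herm_smul_left, herm_smul_right]
    simp only [herm_sub_left, herm_sub_right hF, herm_smul_left, herm_smul_right, hcc, v0, v1, v1']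
    linear_combination htt - t⁻¹ * t⁻¹ ^ q * hst
  have g20 : hermForm n F q (c⁻¹ W) v = 0 := by
    rw [← hcc, hcW, hW, herm_smul_left, herm_sub_left, herm_smul_left, hcc, v0, v1']
    ring
  have g22 : hermForm n F q (c⁻¹ W) (c⁻¹ W) = 1 := by
    rw [← hcc, hcW, hW, herm_smul_left, herm_smul_right]
    simp only [herm_sub_left, herm_sub_right hF, herm_smul_left, herm_smul_right, hcc, v0, v1, v1',
      hsqq]
    rw [← mul_assoc, hnn]
    linear_combination htt - t⁻¹ * t⁻¹ ^ q * hst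
  have g12 : hermForm n F q w1 (c⁻¹ W) = 0 := by
    have hcs : ∀ (x : F) (u : Fin n → F), c (x • u) = x • c u := fun x u => hc.semi.smul x u
    rw [← hcc, hcW, hW, hw1, hcs, hc.semi.sub, hcs, herm_smul_left, herm_smul_right]
    simp only [herm_sub_left, herm_sub_right hF, herm_smul_left, herm_smul_right, hcc, v0, v1, v2,
      hsqq]
    ring
  set w2 : Fin n → F := c⁻¹ W with hw2
  have gram : ∀ i j : Fin 3, hermForm n F q ((![v, w1, w2] : Fin 3 → (Fin n → F)) i)
      ((![v, w1, w2] : Fin 3 → (Fin n → F)) j) = if i = j then 1 else 0 := by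
    intro i j
    fin_cases i <;> fin_cases j
    · exact v0
    · exact herm_eq_zero_swap hF g10
    · exact herm_eq_zero_swap hF g20
    · exact g10
    · exact g11
    · exact g12
    · exact g20
    · exact herm_eq_zero_swap hF g12
    · exact g22
  have hli := li_orth hF gram
  have hfli := li_orth hF hf
  obtain ⟨ε, hε0, hε⟩ := exists_norm_eq_ne hF (c := (-1 : F))
    (by rw [neg_pow_q hF, one_pow]) (neg_ne_zero.2 one_ne_zero)
  have e0 : v ∈ Submodule.span F (Set.range (![v, w1, w2] : Fin 3 → (Fin n → F))) :=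
    Submodule.subset_span ⟨0, rfl⟩
  have e1 : w1 ∈ Submodule.span F (Set.range (![v, w1, w2] : Fin 3 → (Fin n → F))) :=
    Submodule.subset_span ⟨1, rfl⟩
  obtain ⟨z, hz, hzb⟩ := exists_z hF hli (by omega) (e := v + ε • w1) (f := v)
    (Submodule.add_mem _ e0 (Submodule.smul_mem _ _ e1)) e0
    (by
      simp only [herm_add_left, herm_add_right hF, herm_smul_left, herm_smul_right, v0, g10, g11,
        herm_eq_zero_swap hF g10]
      linear_combination hε)
    (by
      rw [herm_add_left, herm_smul_left, v0, g10, mul_zero, add_zero]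
      exact one_ne_zero)
  obtain ⟨s0, hs0⟩ := Cfsg.Agent.H77.Witt.exists_su_ext hF _ _ hfli hli
    (fun i j => by rw [hf, gram]) hz hzb
  refine ⟨s0, fun hsol => hns ?_⟩
  set d' : Equiv.Perm (Fin n → F) := rho n F q s0 * d * (rho n F q s0)⁻¹ with hd'
  have hd's : SI q τ d' := hd.conj s0
  have hda : ∀ x, d' (act s0 x) = act s0 (d x) := by
    intro x
    rw [hd', Equiv.Perm.mul_apply, Equiv.Perm.mul_apply]
    have h1 : (rho n F q s0)⁻¹ (act s0 x) = x := by
      rw [← rho_apply, inv_apply_self]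
    rw [h1, rho_apply]
  have k0 : act s0 f0 = v := hs0 0
  have k1 : act s0 f1 = w1 := hs0 1
  have k2 : act s0 f2 = w2 := hs0 2
  have m0 : d' v = b • v := by
    rw [← k0, hda, h0, act_smul]
  have m1 : d' w1 = a • w1 := by
    rw [← k1, hda, h1, act_smul]
  have m2 : d' w2 = a' • w2 := by
    rw [← k2, hda, h2, act_smul]
  clear_value d'
  -- the relation
  have hJinj : Function.Injective (J (F := F) v w1) := by
    refine J_injective fun x y hxy => ?_
    have h3 := Fintype.linearIndependent_iff.1 hli ![x, y, 0] (by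
      rw [Fin.sum_univ_three]
      simpa using hxy)
    exact ⟨by simpa using h3 0, by simpa using h3 1⟩
  have r1 : (d', y1) ∈ RR (J (F := F) v w1) := by
    intro u
    change d' (J v w1 u) = J v w1 (y1 u)
    rw [hy1]
    simp only [J, hd's.semi.add, hd's.semi.smul, m0, m1, Matrix.cons_val_zero, Matrix.cons_val_one,
      smul_smul, mul_comm]
  have r2 : (c * d' * c⁻¹, rho 2 F q g * y2 * (rho 2 F q g)⁻¹) ∈ RR (J (F := F) v w1) := by
    intro u
    obtain ⟨x, rfl⟩ := (rho 2 F q g).surjective u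
    change (c * d' * c⁻¹) (J v w1 (rho 2 F q g x)) =
      J v w1 ((rho 2 F q g * y2 * (rho 2 F q g)⁻¹) (rho 2 F q g x))
    rw [Equiv.Perm.mul_apply, Equiv.Perm.mul_apply, Equiv.Perm.mul_apply, Equiv.Perm.mul_apply,
      inv_apply_self, rho_apply, rho_apply, hJ, hJ, inv_apply_self, hy2]
    congr 1
    simp only [J, hd's.semi.add, hd's.semi.smul, m0, m2, Matrix.cons_val_zero, Matrix.cons_val_one,
      smul_smul, mul_comm]
  refine solvable_of_rel (RR (J (F := F) v w1)) ?_ r1 r2 (isSolvable_of_le ?_ hsol)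
  · intro x hx
    ext1 u
    apply hJinj
    exact (hx u).symm
  · rw [Subgroup.closure_le]
    have q1 : c ∈ Subgroup.closure ({c, d'} : Set (Equiv.Perm (Fin n → F))) :=
      Subgroup.subset_closure (by simp)
    have q2 : d' ∈ Subgroup.closure ({c, d'} : Set (Equiv.Perm (Fin n → F))) :=
      Subgroup.subset_closure (by simp)
    rintro x hx
    rcases hx with rfl | hx
    · exact q2
    · rw [Set.mem_singleton_iff] at hx
      rw [hx]
      exact mul_mem (mul_mem q1 q2) (inv_mem q1)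

end plane

end Cfsg.Agent.H650.S5U
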