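import Cfsg.Agent.H650.S5.PsuA

/-!
# S2274, C4 (a), second part: the plane; type B against elements with eigenvectors (helper650)

* `plane` : the solvable Baer-Suzuki theorem in the plane;
* `plane_lin`, `plane_semi` : diagonal isometries, field automorphisms;
* `ua_BA`, `ua_BC`.
-/

set_option autoImplicit false

namespace Cfsg.Agent.H650.S5U

open Cfsg Cfsg.Agent.LieClassical.HermBasic Cfsg.Agent.LieClassical.HermSiegel
open Cfsg.Agent.H957.T5V Cfsg.Agent.H957.T5Conf Cfsg.Agent.H957.T5Pairs Cfsg.Agent.H957.T5Two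
  Cfsg.Agent.H957.T5Semi Cfsg.Agent.H957.T5U
open Cfsg.Agent.H177.MeetPSU (rho rho_apply rho_injective yy yy_apply ind_yy)
open Cfsg.Agent.H132.S5 Cfsg.Agent.H533.T5
open Cfsg.Agent.ClassicalGeometry.PSUAutCount (gm)
open Matrix

variable {F : Type} [Field F] {n q p : ℕ} {σ τ : F ≃+* F}

/-- `y` normalises `SU`. -/
def Nm (q : ℕ) (y : Equiv.Perm (Fin n → F)) : Prop :=
  (∀ s : SU n F q, ∃ s' : SU n F q, rho n F q s' = y * rho n F q s * y⁻¹) ∧
    ∀ s : SU n F q, ∃ s' : SU n F q, rho n F q s' = y⁻¹ * rho n F q s * y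

theorem Nm.of_left [Finite F] {y : Equiv.Perm (Fin n → F)}
    (h : ∀ s : SU n F q, ∃ s' : SU n F q, rho n F q s' = y * rho n F q s * y⁻¹) : Nm q y := by
  refine ⟨h, ?_⟩
  have : Finite (SU n F q) := Finite.of_injective _ (rho_injective (n := n) (F := F) (q := q))
  choose f hf using h
  have hinj : Function.Injective f := by
    intro a b hab
    apply rho_injective
    have h1 : y * rho n F q a * y⁻¹ = y * rho n F q b * y⁻¹ := by rw [← hf, ← hf, hab]
    exact mul_left_cancel (mul_right_cancel h1)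
  intro s
  obtain ⟨s', rfl⟩ := (Finite.injective_iff_surjective.1 hinj) s
  refine ⟨s', ?_⟩
  rw [hf]
  group

theorem exists_dg [Fintype F] (hF : Fintype.card F = q ^ 2) (τ : F ≃+* F) {b a : F}
    (hb : b * b ^ q = 1) (ha : a * a ^ q = 1) :
    ∃ y : Equiv.Perm (Fin 2 → F), DG τ b a y ∧ Nm q y := by
  obtain ⟨A, hA, hAM⟩ := ClassicalGeometry.HermOrtho.exists_GU_of_isometry
    (M := Matrix.diagonal ![b, a]) hF (fun u v => by
      rw [herm_two, herm_two]
      simp only [Matrix.mulVec_diagonal, Matrix.cons_val_zero, Matrix.cons_val_one, mul_pow]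
      linear_combination (u 0 * v 0 ^ q) * hb + (u 1 * v 1 ^ q) * ha)
  refine ⟨yy ⟨A, hA⟩ τ, fun v => ?_, Nm.of_left fun s => ?_⟩
  · rw [yy_apply]
    have h1 : gm (⟨A, hA⟩ : GU 2 F q) = Matrix.diagonal ![b, a] := hAM
    rw [h1]
    funext i
    rw [Matrix.mulVec_diagonal]
    fin_cases i <;> rfl
  · obtain ⟨s', hs', -⟩ := ind_yy ⟨A, hA⟩ τ s
    exact ⟨s', hs'⟩

/-- The solvable Baer-Suzuki theorem for aligned elements, in the plane. -/
theorem plane [Fintype F] (hRS : RSHyp.{0} p) (hF : Fintype.card F = q ^ 2) (hq : 4 ≤ q)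
    {y1 y2 h : Equiv.Perm (Fin 2 → F)} (hn1 : Nm q y1) (hy1 : orderOf y1 = p)
    (hne : ∃ s : SU 2 F q, ¬ Commute (rho 2 F q s) y1) (j : ℤ) (hj : y2 ^ j = y1 * h)
    (hch : Commute y1 h) (hRh : ∀ s : SU 2 F q, Commute (rho 2 F q s) h) :
    ∃ g : SU 2 F q, ¬ Group.IsSolvable ↥(Subgroup.closure
      ({y1, rho 2 F q g * y2 * (rho 2 F q g)⁻¹} : Set (Equiv.Perm (Fin 2 → F)))) := by
  have hqR : IsQuasisimple (rho 2 F q).range :=
    Cfsg.Agent.SignalizersComponents.Components.isQuasisimple_of_mulEquiv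
      (MonoidHom.ofInjective rho_injective) (Cfsg.Agent.H724.UThree.quasi_su_two hF hq)
  have h1 : ∀ r ∈ (rho 2 F q).range, y1 * r * y1⁻¹ ∈ (rho 2 F q).range := by
    rintro _ ⟨s, rfl⟩
    obtain ⟨s', hs'⟩ := hn1.1 s
    exact ⟨s', hs'⟩
  have h2 : ∀ r ∈ (rho 2 F q).range, y1⁻¹ * r * y1 ∈ (rho 2 F q).range := by
    rintro _ ⟨s, rfl⟩
    obtain ⟨s', hs'⟩ := hn1.2 s
    exact ⟨s', hs'⟩
  have h3 : ∃ r ∈ (rho 2 F q).range, ¬ Commute r y1 := by
    obtain ⟨s, hs⟩ := hne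
    exact ⟨_, ⟨s, rfl⟩, hs⟩
  obtain ⟨_, ⟨g, rfl⟩, hg⟩ := APair.of_aligned hRS (S := (rho 2 F q).range)
    (R := (rho 2 F q).range) le_rfl hy1 h1 (s := 1) (one_mem _) (d := y2) j (h := h) hch
    (by rintro _ ⟨s, rfl⟩; exact hRh s) (by rw [one_mul, inv_one, mul_one, hj])
    (Cfsg.Agent.H106.MT.not_solvable_of_quasisimple hqR h1 h2 h3)
  exact ⟨g, hg⟩

theorem DG.pow {b a : F} {y : Equiv.Perm (Fin 2 → F)} (hy : DG (1 : F ≃+* F) b a y) (m : ℕ) :
    ∀ v, (y ^ m) v = ![b ^ m * v 0, a ^ m * v 1] := by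
  induction m with
  | zero =>
    intro v
    funext i
    fin_cases i <;> simp
  | succ m ih =>
    intro v
    rw [pow_succ, Equiv.Perm.mul_apply, hy, ih]
    funext i
    fin_cases i <;> simp [pow_succ, mul_assoc]

/-- diagonal isometries of order `p` -/
theorem plane_lin [Fintype F] (hRS : RSHyp.{0} p) (hF : Fintype.card F = q ^ 2) (hp : p.Prime)
    (hq : 4 ≤ q) {b a a' : F} (hb : b * b ^ q = 1) (ha : a * a ^ q = 1) (ha' : a' * a' ^ q = 1)
    (hbp : b ^ p = 1) (hap : a ^ p = 1) (hap' : a' ^ p = 1) (hab : a ≠ b) (hab' : a' ≠ b) :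
    ∃ (y1 y2 : Equiv.Perm (Fin 2 → F)) (g : SU 2 F q), DG (1 : F ≃+* F) b a y1 ∧
      DG (1 : F ≃+* F) b a' y2 ∧ ¬ Group.IsSolvable ↥(Subgroup.closure
      ({y1, rho 2 F q g * y2 * (rho 2 F q g)⁻¹} : Set (Equiv.Perm (Fin 2 → F)))) := by
  have : Fact p.Prime := ⟨hp⟩
  have hb0 : b ≠ 0 := left_ne_zero_of_mul (hb.symm ▸ one_ne_zero)
  have ha0 : a ≠ 0 := left_ne_zero_of_mul (ha.symm ▸ one_ne_zero)
  obtain ⟨y1, hy1, hn1⟩ := exists_dg hF 1 hb ha
  obtain ⟨y2, hy2, -⟩ := exists_dg hF 1 hb ha'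
  refine ⟨y1, y2, ?_⟩
  -- `a / b` is a power of `a' / b`
  have hζ : (a' / b) ^ p = 1 := by rw [div_pow, hap', hbp, div_one]
  have hζ1 : a' / b ≠ 1 := fun h => hab' ((div_eq_one_iff_eq hb0).1 h)
  have hξ : (a / b) ^ p = 1 := by rw [div_pow, hap, hbp, div_one]
  have : NeZero p := ⟨hp.ne_zero⟩
  obtain ⟨j, -, hj⟩ := (prim_of_root hp hζ hζ1).eq_pow_of_pow_eq_one hξ
  have hκ : b ^ j / b ≠ 0 := div_ne_zero (pow_ne_zero _ hb0) hb0
  let h : Equiv.Perm (Fin 2 → F) := toA (LinearEquiv.smulOfUnit (Units.mk0 _ hκ))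
  have hh : ∀ v, h v = (b ^ j / b) • v := fun v => rfl
  have hj' : y2 ^ (j : ℤ) = y1 * h := by
    rw [zpow_natCast]
    ext1 v
    rw [hy2.pow, Equiv.Perm.mul_apply, hh, hy1]
    rw [div_pow] at hj
    have hj2 : a' ^ j = a / b * b ^ j := by
      rw [← hj]
      field_simp
    funext i
    fin_cases i
    · simp
      field_simp
    · simp [hj2]
      field_simp
  have hord : orderOf y1 = p := orderOf_eq_prime (by
      ext1 v
      rw [hy1.pow, hbp, hap]
      funext i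
      fin_cases i <;> simp) (by
      rintro rfl
      apply hab
      have h1 := hy1 ![1, 1]
      have h2 := congrFun h1 0
      have h3 := congrFun h1 1
      simp at h2 h3
      rw [← h2, ← h3])
  have hne : ∃ s : SU 2 F q, ¬ Commute (rho 2 F q s) y1 := by
    have e1 : (!![0, -1; 1, 0] : Matrix (Fin 2) (Fin 2) F).det = 1 := by
      simp [Matrix.det_fin_two]
    have e2 : ∀ u v : Fin 2 → F, hermForm 2 F q (!![0, -1; 1, 0] *ᵥ u) (!![0, -1; 1, 0] *ᵥ v) =
        hermForm 2 F q u v := by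
      intro u v
      rw [herm_two, herm_two]
      simp [Matrix.mulVec, dotProduct, Fin.sum_univ_two, neg_pow_q hF]
      ring
    refine ⟨mkSU !![0, -1; 1, 0] e1 e2, fun hcm => hab ?_⟩
    have h2 : ∀ u : Fin 2 → F, act (mkSU !![0, -1; 1, 0] e1 e2 : SU 2 F q) u = ![-u 1, u 0] := by
      intro u
      change !![0, -1; 1, 0] *ᵥ u = _
      funext i
      fin_cases i <;> simp [Matrix.mulVec, dotProduct, Fin.sum_univ_two]
    have h1 := congrArg (fun f : Equiv.Perm (Fin 2 → F) => f ![1, 0] 1) hcm.eq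
    simp only [Equiv.Perm.mul_apply, rho_apply, hy1 _] at h1
    rw [h2, h2] at h1
    simp at h1
    exact h1.symm
  have hc1 : Commute y1 h := by
    change y1 * h = h * y1
    ext1 v
    rw [Equiv.Perm.mul_apply, Equiv.Perm.mul_apply, hh, hh, hy1, hy1]
    funext i
    fin_cases i
    · simp; ring
    · simp; ring
  have hc2 : ∀ s : SU 2 F q, Commute (rho 2 F q s) h := by
    intro s
    change rho 2 F q s * h = h * rho 2 F q s
    ext1 v
    rw [Equiv.Perm.mul_apply, Equiv.Perm.mul_apply, hh, hh, rho_apply, rho_apply, act_smul]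
  obtain ⟨g, hg⟩ := plane hRS hF hq (y2 := y2) hn1 hord hne (j : ℤ) (h := h) hj' hc1 hc2
  exact ⟨g, hy1, hy2, hg⟩

/-- field automorphisms of order `p` -/
theorem plane_semi [Fintype F] (hRS : RSHyp.{0} p) (hF : Fintype.card F = q ^ 2) (hp : p.Prime)
    (hp2 : p ≠ 2) (hq : 4 ≤ q) (hτ : orderOf τ = p) :
    ∃ (y1 y2 : Equiv.Perm (Fin 2 → F)) (g : SU 2 F q), DG τ 1 1 y1 ∧
      DG τ 1 1 y2 ∧ ¬ Group.IsSolvable ↥(Subgroup.closure
      ({y1, rho 2 F q g * y2 * (rho 2 F q g)⁻¹} : Set (Equiv.Perm (Fin 2 → F)))) := by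
  have : Fact p.Prime := ⟨hp⟩
  obtain ⟨y1, hy1, hn1⟩ := exists_dg hF τ (b := 1) (a := 1) (by simp) (by simp)
  have hpow : ∀ (m : ℕ) (v : Fin 2 → F), (y1 ^ m) v = ![(τ ^ m) (v 0), (τ ^ m) (v 1)] := by
    intro m
    induction m with
    | zero =>
      intro v
      funext i
      fin_cases i <;> simp
    | succ m ih =>
      intro v
      rw [pow_succ, Equiv.Perm.mul_apply, hy1, ih, pow_succ]
      funext i
      fin_cases i <;> simp
  have hτp : τ ^ p = 1 := by rw [← hτ, pow_orderOf_eq_one]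
  have hτ1 : τ ≠ 1 := by
    rintro rfl
    rw [orderOf_one] at hτ
    exact hp.one_lt.ne hτ
  obtain ⟨w, hw, hwτ⟩ := exists_moved hF hp hp2 hτ
  have hord : orderOf y1 = p := orderOf_eq_prime (by
      ext1 v
      rw [hpow, hτp]
      funext i
      fin_cases i <;> simp) (by
      rintro rfl
      apply hτ1
      ext x
      have h2 := congrFun (hy1 ![x, x]) 0
      simp at h2
      exact h2.symm)
  have hne : ∃ s : SU 2 F q, ¬ Commute (rho 2 F q s) y1 := by
    have e1 : (!![w, 0; 0, w ^ q] : Matrix (Fin 2) (Fin 2) F).det = 1 := by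
      simp [Matrix.det_fin_two, hw]
    have e2 : ∀ u v : Fin 2 → F, hermForm 2 F q (!![w, 0; 0, w ^ q] *ᵥ u) (!![w, 0; 0, w ^ q] *ᵥ v) =
        hermForm 2 F q u v := by
      intro u v
      rw [herm_two, herm_two]
      simp only [Matrix.mulVec, dotProduct, Fin.sum_univ_two, Matrix.of_apply, Matrix.cons_val',
        Matrix.cons_val_zero, Matrix.cons_val_one, zero_mul, add_zero, zero_add,
        Matrix.cons_val_fin_one, mul_pow, pow_q_pow_q hF]
      linear_combination (u 0 * v 0 ^ q + u 1 * v 1 ^ q) * hw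
    refine ⟨mkSU !![w, 0; 0, w ^ q] e1 e2, fun hcm => hwτ ?_⟩
    have h2 : ∀ u : Fin 2 → F, act (mkSU !![w, 0; 0, w ^ q] e1 e2 : SU 2 F q) u =
        ![w * u 0, w ^ q * u 1] := by
      intro u
      change !![w, 0; 0, w ^ q] *ᵥ u = _
      funext i
      fin_cases i <;> simp [Matrix.mulVec, dotProduct, Fin.sum_univ_two]
    have h1 := congrArg (fun f : Equiv.Perm (Fin 2 → F) => f ![1, 0] 0) hcm.eq
    simp only [Equiv.Perm.mul_apply, rho_apply, hy1 _] at h1
    rw [h2, h2] at h1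
    simp at h1
    exact h1.symm
  obtain ⟨g, hg⟩ := plane hRS hF hq (y2 := y1) hn1 hord hne 1 (h := 1)
    (by rw [zpow_one, mul_one]) (Commute.one_right _) (fun s => Commute.one_right _)
  exact ⟨y1, y1, g, hy1, hy1, hg⟩

section core

variable [Fintype F] {c d : Equiv.Perm (Fin n → F)}
variable (hRS : RSHyp.{0} p) (hF : Fintype.card F = q ^ 2) (hn : 3 ≤ n) (hp : p.Prime) (hp5 : 5 ≤ p)
  (hpF : (p : F) ≠ 0)

include hRS hF hn hp hp5 hpF

/-- type B against a linear isometry of order `p` -/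
theorem ua_BA (hc : SI q (1 : F ≃+* F) c) (hpq : p ∣ q + 1)
    (h : ∃ l : F, l * l ^ q = 1 ∧ (∀ v, (c ^ p) v = l • v) ∧ ∀ t : F, t ^ p ≠ l)
    (hd : SI q (1 : F ≃+* F) d) (hdp : d ^ p = 1) (hdn : ¬ IsScal F d) : UA q c d := by
  obtain ⟨h1, h2⟩ := d5_B hF hp hp5 hpF (by omega) hc hpq h
  have hq : 4 ≤ q := by
    have := Nat.le_of_dvd (by omega) hpq
    omega
  obtain ⟨f, η, hf, hfd, hηp, hηn, i, j, hij⟩ := exists_eig_data hF hp hpq (by omega) hd hdp hdn
  have key : ∀ i0 i1 i2 : Fin n, i0 ≠ i1 → i0 ≠ i2 → i1 ≠ i2 → η i1 ≠ η i0 → η i2 ≠ η i0 →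
      UA q c d := by
    intro i0 i1 i2 h01 h02 h12 hη1 hη2
    obtain ⟨y1, y2, g, hy1, hy2, hns⟩ := plane_lin hRS hF hp hq (hηn i0) (hηn i1) (hηn i2)
      (hηp i0) (hηp i1) (hηp i2) hη1 hη2
    refine ua_of_plane hF h2 hc h1 hd (f0 := f i0) (f1 := f i1) (f2 := f i2) ?_
      (left_ne_zero_of_mul ((hηn i0).symm ▸ one_ne_zero))
      (left_ne_zero_of_mul ((hηn i1).symm ▸ one_ne_zero))
      (left_ne_zero_of_mul ((hηn i2).symm ▸ one_ne_zero)) (hfd i0) (hfd i1) (hfd i2) hy1 hy2 g hns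
    intro a b
    fin_cases a <;> fin_cases b <;> simp [hf, h01, h02, h12, h01.symm, h02.symm, h12.symm]
  have hij' : i ≠ j := fun h => hij (by rw [h])
  obtain ⟨k, hki, hkj⟩ : ∃ k : Fin n, k ≠ i ∧ k ≠ j := by
    obtain ⟨k, hk⟩ := Finset.exists_mem_notMem_of_card_lt_card (s := ({i, j} : Finset (Fin n)))
      (t := Finset.univ) (by
        rw [Finset.card_univ, Fintype.card_fin]
        exact lt_of_le_of_lt Finset.card_le_two (by omega))
    have h3 := hk.2
    simp only [Finset.mem_insert, Finset.mem_singleton, not_or] at h3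
    exact ⟨k, h3.1, h3.2⟩
  by_cases hk : η k = η i
  · exact key j i k hij'.symm hkj.symm hki.symm hij (by rw [hk]; exact hij)
  · exact key i j k hij' hki.symm hkj.symm hij.symm hk

/-- type B against a field automorphism of order `p` -/
theorem ua_BC (hc : SI q (1 : F ≃+* F) c) (hpq : p ∣ q + 1)
    (h : ∃ l : F, l * l ^ q = 1 ∧ (∀ v, (c ^ p) v = l • v) ∧ ∀ t : F, t ^ p ≠ l)
    (hτ : orderOf τ = p) (hd : SI q τ d) (hdp : d ^ p = 1) : UA q c d := by
  obtain ⟨h1, h2⟩ := d5_B hF hp hp5 hpF (by omega) hc hpq h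
  have hq : 4 ≤ q := by
    have := Nat.le_of_dvd (by omega) hpq
    omega
  obtain ⟨f, hf, hfd⟩ := exists_onb_fix hF hp (by omega) hτ hd hdp 3 hn
  obtain ⟨y1, y2, g, hy1, hy2, hns⟩ := plane_semi hRS hF hp (by omega) hq hτ
  refine ua_of_plane hF h2 hc h1 hd (f0 := f 0) (f1 := f 1) (f2 := f 2) ?_ one_ne_zero one_ne_zero
    one_ne_zero (by rw [one_smul, hfd]) (by rw [one_smul, hfd]) (by rw [one_smul, hfd]) hy1 hy2 g hns
  intro a b
  fin_cases a <;> fin_cases b <;> simp [hf]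

end core

end Cfsg.Agent.H650.S5U
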