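import Cfsg.Agent.H650.S5.PsuA2

/-!
# S2274, C4 (a), third part: two elements of type B (helper650)

`n = p`, `p ∣ q + 1`; `c`, `d` linear isometries with `c ^ p`, `d ^ p` scalars which are not `p`-th powers: a power
of some `SU`-conjugate of `d` is proportional to `c` (`aligned_BB`).
-/

set_option autoImplicit false

namespace Cfsg.Agent.H650.S5U

open Cfsg Cfsg.Agent.LieClassical.HermBasic Cfsg.Agent.LieClassical.HermSiegel
open Cfsg.Agent.H957.T5V Cfsg.Agent.H957.T5Conf Cfsg.Agent.H957.T5Pairs Cfsg.Agent.H957.T5Two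
  Cfsg.Agent.H957.T5Semi Cfsg.Agent.H957.T5U
open Cfsg.Agent.H177.MeetPSU (rho rho_apply rho_injective exists_su)
open Cfsg.Agent.ClassicalGeometry.PSUAutCount (gm gm_mul gm_inv_mulVec herm_gm)
open Matrix Polynomial

variable {F : Type} [Field F] [Fintype F] {q p : ℕ}

/-- In the group of norm one elements every element is a product of a power of `l` and a `p`-th power, if `l` is not
a `p`-th power. -/
theorem exists_pow_mul_pow (hp : p.Prime) {l δ : F} (hl : l * l ^ q = 1)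
    (hlp : ∀ t : F, t ^ p ≠ l) (hδ : δ * δ ^ q = 1) :
    ∃ (k : ℕ) (u : F), u * u ^ q = 1 ∧ l ^ k * u ^ p = δ := by
  have hl0 : l ≠ 0 := left_ne_zero_of_mul (hl.symm ▸ one_ne_zero)
  have hδ0 : δ ≠ 0 := left_ne_zero_of_mul (hδ.symm ▸ one_ne_zero)
  let U : Subgroup Fˣ := (powMonoidHom (q + 1) : Fˣ →* Fˣ).ker
  have hU : ∀ x : Fˣ, x ∈ U ↔ (x : F) * (x : F) ^ q = 1 := by
    intro x
    rw [MonoidHom.mem_ker, powMonoidHom_apply, Units.ext_iff, Units.val_pow_eq_pow_val, pow_succ',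
      Units.val_one]
  obtain ⟨ζ, hζ⟩ := IsCyclic.exists_generator (α := U)
  obtain ⟨a, ha⟩ := Subgroup.mem_zpowers_iff.1 (hζ ⟨Units.mk0 l hl0, (hU _).2 hl⟩)
  obtain ⟨b, hb⟩ := Subgroup.mem_zpowers_iff.1 (hζ ⟨Units.mk0 δ hδ0, (hU _).2 hδ⟩)
  have hcop : IsCoprime a (p : ℤ) := by
    rw [isCoprime_comm, (Nat.prime_iff_prime_int.1 hp).coprime_iff_not_dvd]
    rintro ⟨m, hm⟩
    apply hlp (((ζ ^ m : U) : Fˣ) : F)
    have h1 := congrArg (fun x : U => ((x : Fˣ) : F)) ha
    rw [hm, mul_comm, _root_.zpow_mul, zpow_natCast] at h1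
    simpa using h1
  obtain ⟨x, y, hxy⟩ := hcop
  -- `a (b x) + p (b y) = b`
  obtain ⟨k, hk⟩ : ∃ k : ℕ, (⟨Units.mk0 l hl0, (hU _).2 hl⟩ : U) ^ k =
      (⟨Units.mk0 l hl0, (hU _).2 hl⟩ : U) ^ (b * x) := by
    have := ((isOfFinOrder_of_finite (⟨Units.mk0 l hl0, (hU _).2 hl⟩ : U)).mem_powers_iff_mem_zpowers).2
      ⟨b * x, rfl⟩
    obtain ⟨k, hk⟩ := this
    exact ⟨k, hk⟩
  refine ⟨k, (((ζ ^ (b * y) : U) : Fˣ) : F), (hU _).1 (ζ ^ (b * y) : U).2, ?_⟩
  have h2 : (⟨Units.mk0 l hl0, (hU _).2 hl⟩ : U) ^ k * (ζ ^ (b * y)) ^ p =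
      ⟨Units.mk0 δ hδ0, (hU _).2 hδ⟩ := by
    rw [hk, ← ha, ← hb, ← _root_.zpow_mul, ← zpow_natCast, ← _root_.zpow_mul, ← _root_.zpow_add]
    congr 1
    linear_combination b * hxy
  have h3 := congrArg (fun x : U => ((x : Fˣ) : F)) h2
  simpa using h3

/-- An orthonormal basis `v, c v, c² v, …`. -/
theorem exists_onb_orbit (hF : Fintype.card F = q ^ 2) (hp : p.Prime) (hp5 : 5 ≤ p)
    (hpF : (p : F) ≠ 0) (hpq : p ∣ q + 1) {c : Equiv.Perm (Fin p → F)}
    (hc : SI q (1 : F ≃+* F) c) {l : F} (hll : l * l ^ q = 1) (hl : ∀ v, (c ^ p) v = l • v)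
    (hlp : ∀ t : F, t ^ p ≠ l) :
    ∃ v : Fin p → F, ∀ i j : Fin p, hermForm p F q ((c ^ (i : ℕ)) v) ((c ^ (j : ℕ)) v) =
      if i = j then 1 else 0 := by
  have hodd : Odd p := hp.odd_of_ne_two (by omega)
  obtain ⟨m, hm⟩ := hodd
  have hP := nt_two hF hp.pos hp (by omega) hpq hc hll hl hlp
  have hdeg : (X ^ p - C l : F[X]).natDegree = p := natDegree_X_pow_sub_C
  obtain ⟨v, hv, -⟩ := hP.get hF hpF hc (m := m) (by rw [hdeg]; omega)
    (fun k => if k = 0 then 1 else 0) (by simp)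
  refine ⟨v, ?_⟩
  have hcc : ∀ (k : ℕ) (x y : Fin p → F), hermForm p F q ((c ^ k) x) ((c ^ k) y) =
      hermForm p F q x y := by
    intro k x y
    have h := (hc.pow k).herm x y
    rw [one_pow] at h
    exact h
  -- all inner products with `v`
  have key : ∀ k, k < p → hermForm p F q ((c ^ k) v) v = if k = 0 then 1 else 0 := by
    intro k hk
    by_cases h : k ≤ m
    · exact hv k h
    · have hk0 : k ≠ 0 := by omega
      rw [if_neg hk0, ← hcc (p - k), ← Equiv.Perm.mul_apply, ← pow_add, Nat.sub_add_cancel hk.le,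
        hl, herm_smul_left, herm_swap hF ((c ^ (p - k)) v) v, hv (p - k) (by omega),
        if_neg (by omega), zero_pow_q hF, mul_zero]
  have key2 : ∀ i j : ℕ, i ≤ j → j < p →
      hermForm p F q ((c ^ j) v) ((c ^ i) v) = if j = i then 1 else 0 := by
    intro i j hij hj
    have h1 : (c ^ j) v = (c ^ i) ((c ^ (j - i)) v) := by
      rw [← Equiv.Perm.mul_apply, ← pow_add, Nat.add_sub_cancel' hij]
    rw [h1, hcc, key _ (by omega)]
    by_cases h : j = i
    · rw [if_pos h, if_pos (by omega)]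
    · rw [if_neg h, if_neg (by omega)]
  intro i j
  rcases le_total (j : ℕ) (i : ℕ) with h | h
  · rw [key2 _ _ h i.2]
    simp [Fin.ext_iff]
  · rw [herm_swap hF, key2 _ _ h j.2]
    by_cases h2 : i = j
    · subst h2
      simp
    · rw [if_neg h2, if_neg (fun h3 => h2 (Fin.ext h3.symm)), zero_pow_q hF]

omit [Fintype F] in
/-- The determinant of an element of type B. -/
theorem det_B (hp : p.Prime) (hp5 : 5 ≤ p) {f : Module.End F (Fin p → F)} {l : F}
    (hl : f ^ p = algebraMap F _ l) (hlp : ∀ t : F, t ^ p ≠ l) : LinearMap.det f = l := by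
  have : Nonempty (Fin p) := ⟨⟨0, hp.pos⟩⟩
  have : Nontrivial (Fin p → F) := Function.nontrivial
  have hirr : Irreducible (X ^ p - C l : F[X]) := X_pow_sub_C_irreducible_of_prime hp hlp
  have hmon : (X ^ p - C l : F[X]).Monic := monic_X_pow_sub_C l hp.ne_zero
  have hmin : minpoly F f = X ^ p - C l := by
    refine (minpoly.eq_of_irreducible_of_monic hirr ?_ hmon).symm
    rw [map_sub, map_pow, aeval_X, aeval_C, hl, sub_self]
  have hchar : LinearMap.charpoly f = X ^ p - C l := by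
    have h1 : minpoly F f ∣ LinearMap.charpoly f := LinearMap.minpoly_dvd_charpoly f
    rw [hmin] at h1
    refine eq_of_monic_of_dvd_of_natDegree_le hmon (LinearMap.charpoly_monic f) h1 ?_
    rw [LinearMap.charpoly_natDegree, Module.finrank_fin_fun, natDegree_X_pow_sub_C]
  rw [LinearMap.det_eq_sign_charpoly_coeff, hchar, Module.finrank_fin_fun,
    (hp.odd_of_ne_two (by omega)).neg_one_pow]
  simp [hp.ne_zero.symm]

/-- Two elements of type B with the same `p`-th power are conjugate under `SU`. -/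
theorem conj_B (hF : Fintype.card F = q ^ 2) (hp : p.Prime) (hp5 : 5 ≤ p)
    (hpF : (p : F) ≠ 0) (hpq : p ∣ q + 1) {c z : Equiv.Perm (Fin p → F)}
    (hc : SI q (1 : F ≃+* F) c) (hz : SI q (1 : F ≃+* F) z) {l : F} (hll : l * l ^ q = 1)
    (hlc : ∀ v, (c ^ p) v = l • v) (hlz : ∀ v, (z ^ p) v = l • v) (hlp : ∀ t : F, t ^ p ≠ l) :
    ∃ s : SU p F q, rho p F q s * z * (rho p F q s)⁻¹ = c := by
  obtain ⟨v, hv⟩ := exists_onb_orbit hF hp hp5 hpF hpq hc hll hlc hlp
  obtain ⟨w, hw⟩ := exists_onb_orbit hF hp hp5 hpF hpq hz hll hlz hlp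
  obtain ⟨A, hA, hAx⟩ := ClassicalGeometry.HermOrtho.exists_GU_of_orthonormal hF hv
  obtain ⟨B, hB, hBx⟩ := ClassicalGeometry.HermOrtho.exists_GU_of_orthonormal hF hw
  obtain ⟨fc, hfc, hfcc⟩ := exists_end hc.semi
  obtain ⟨fz, hfz, hfzc⟩ := exists_end hz.semi
  let A' : GU p F q := ⟨A, hA⟩
  let B' : GU p F q := ⟨B, hB⟩
  set G : GU p F q := A' * B'⁻¹ with hG
  have hA1 : ∀ i : Fin p, gm A' *ᵥ (Pi.single i 1) = (c ^ (i : ℕ)) v := by
    intro i
    have h1 := hAx (Pi.single i 1)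
    rw [Finset.sum_eq_single i (fun j _ hj => by simp [hj]) (by simp), Pi.single_eq_same,
      one_smul] at h1
    exact h1
  have hB1 : ∀ i : Fin p, gm B' *ᵥ (Pi.single i 1) = (z ^ (i : ℕ)) w := by
    intro i
    have h1 := hBx (Pi.single i 1)
    rw [Finset.sum_eq_single i (fun j _ hj => by simp [hj]) (by simp), Pi.single_eq_same,
      one_smul] at h1
    exact h1
  have hG1 : ∀ i : ℕ, i < p → gm G *ᵥ ((z ^ i) w) = (c ^ i) v := by
    intro i hi
    rw [hG, gm_mul, ← Matrix.mulVec_mulVec, ← hB1 ⟨i, hi⟩, gm_inv_mulVec, hA1]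
  -- the conjugation relation
  have hli := li_orth hF hw
  have hne : Nonempty (Fin p) := ⟨⟨0, hp.pos⟩⟩
  let bs : Module.Basis (Fin p) F (Fin p → F) :=
    basisOfLinearIndependentOfCardEqFinrank hli (by rw [Module.finrank_fin_fun, Fintype.card_fin])
  have hbs : ∀ i, bs i = (z ^ (i : ℕ)) w := fun i => by simp [bs]
  have hrel : ∀ x, gm G *ᵥ (z x) = c (gm G *ᵥ x) := by
    have h1 : (Matrix.mulVecLin (gm G)).comp (fz : (Fin p → F) →ₗ[F] (Fin p → F)) =
        (fc : (Fin p → F) →ₗ[F] (Fin p → F)).comp (Matrix.mulVecLin (gm G)) := by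
      refine bs.ext fun i => ?_
      rw [hbs]
      change gm G *ᵥ (fz ((z ^ (i : ℕ)) w)) = fc (gm G *ᵥ ((z ^ (i : ℕ)) w))
      rw [hfz, hfc, hG1 i i.2, ← Equiv.Perm.mul_apply, ← pow_succ', ← Equiv.Perm.mul_apply,
        ← pow_succ']
      rcases Nat.lt_or_ge ((i : ℕ) + 1) p with h | h
      · exact hG1 _ h
      · have h2 : (i : ℕ) + 1 = p := le_antisymm i.2 h
        rw [h2, hlz, hlc, Matrix.mulVec_smul]
        have h3 := hG1 0 hp.pos
        rw [pow_zero, pow_zero] at h3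
        exact congrArg (fun x => l • x) h3
    intro x
    have h2 := LinearMap.congr_fun h1 x
    change gm G *ᵥ (fz x) = fc (gm G *ᵥ x) at h2
    rwa [hfz, hfc] at h2
  -- the determinant
  have hdG : (gm G).det * (gm G).det ^ q = 1 := by
    rw [← pow_succ']
    exact LieClassical.GUOrder.det_mul_frob_det hF (gm G) (fun x y => herm_gm G x y)
  have hdG0 : (gm G).det ≠ 0 := left_ne_zero_of_mul (hdG.symm ▸ one_ne_zero)
  have hdi : (gm G).det⁻¹ * (gm G).det⁻¹ ^ q = 1 := by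
    rw [inv_pow, ← mul_inv, hdG, inv_one]
  obtain ⟨k, u, hu, hku⟩ := exists_pow_mul_pow hp hll hlp hdi
  have hu0 : u ≠ 0 := left_ne_zero_of_mul (hu.symm ▸ one_ne_zero)
  let f : (Fin p → F) →ₗ[F] (Fin p → F) :=
    u • (((fc : Module.End F (Fin p → F)) ^ k).comp (Matrix.mulVecLin (gm G)))
  have hfk : ∀ (m : ℕ) (x : Fin p → F), ((fc : Module.End F (Fin p → F)) ^ m) x = (c ^ m) x := by
    intro m
    induction m with
    | zero => intro x; rfl
    | succ m ih =>
      intro x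
      rw [pow_succ, pow_succ]
      change ((fc : Module.End F (Fin p → F)) ^ m) (fc x) = (c ^ m) (c x)
      rw [ih, hfc]
  have hdc : LinearMap.det (fc : Module.End F (Fin p → F)) = l := by
    refine det_B hp hp5 ?_ hlp
    refine LinearMap.ext fun x => ?_
    rw [hfk, hlc, Module.algebraMap_end_apply]
  have hdet : LinearMap.det f = 1 := by
    change LinearMap.det (u • (((fc : Module.End F (Fin p → F)) ^ k).comp
      (Matrix.mulVecLin (gm G)))) = 1
    rw [LinearMap.det_smul, Module.finrank_fin_fun, LinearMap.det_comp, map_pow, hdc]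
    have h1 : LinearMap.det (Matrix.mulVecLin (gm G)) = (gm G).det := by
      rw [← Matrix.toLin'_apply', LinearMap.det_toLin']
    rw [h1]
    calc u ^ p * (l ^ k * (gm G).det) = (l ^ k * u ^ p) * (gm G).det := by ring
      _ = 1 := by rw [hku, inv_mul_cancel₀ hdG0]
  have hfe : ∀ x, f x = u • (c ^ k) (gm G *ᵥ x) := by
    intro x
    change u • (((fc : Module.End F (Fin p → F)) ^ k) (gm G *ᵥ x)) = _
    rw [hfk]
  have hcc : ∀ x y : Fin p → F, hermForm p F q ((c ^ k) x) ((c ^ k) y) = hermForm p F q x y := by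
    intro x y
    have h := (hc.pow k).herm x y
    rw [one_pow] at h
    exact h
  have hfh : ∀ x y, hermForm p F q (f x) (f y) = hermForm p F q x y := by
    intro x y
    rw [hfe, hfe, herm_smul_left, herm_smul_right, hcc, herm_gm, ← mul_assoc, hu, one_mul]
  have hinj : Function.Injective f := by
    have hunit : IsUnit (LinearMap.det f) := by rw [hdet]; exact isUnit_one
    exact (LinearEquiv.ofIsUnitDet (v := Pi.basisFun F (Fin p)) (v' := Pi.basisFun F (Fin p))
      (f := f) (by rw [LinearMap.det_toMatrix]; exact hunit)).injective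
  let fp : Equiv.Perm (Fin p → F) :=
    Equiv.ofBijective f ((Finite.injective_iff_bijective).1 hinj)
  obtain ⟨s, hs⟩ := exists_su (q := q) (g := fp) ⟨⟨f, fun _ => rfl, hdet⟩, hfh⟩
  refine ⟨s, ?_⟩
  rw [mul_inv_eq_iff_eq_mul, hs]
  ext1 x
  rw [Equiv.Perm.mul_apply, Equiv.Perm.mul_apply]
  change f (z x) = c (f x)
  rw [hfe, hfe, hrel, hc.semi.smul, ← Equiv.Perm.mul_apply, ← Equiv.Perm.mul_apply, ← pow_succ,
    ← pow_succ']
  rfl

end Cfsg.Agent.H650.S5U
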